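import Cfsg.Agent.CITGraph.Basic
import Cfsg.Agent.PrimeGraph.SL2Char2
import Cfsg.Agent.SL2C.Basic
import Cfsg.Agent.Suzuki.Centralizers
import Cfsg.Agent.Suzuki.LieModel

/-!
Facts on `PSL(2,2^n)` and `Sz(q)` used for their prime graphs.
-/

set_option autoImplicit false
set_option linter.style.haveILetI false

namespace CfsgLib.CITGraph

open Matrix CfsgLib.CIT

universe u v

section psl

variable {F : Type u} [Field F] [Fintype F] {n : ℕ}

theorem charP_two (hn : 1 ≤ n) (hF : Fintype.card F = 2 ^ n) : CharP F 2 := by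
  refine (CharP.charP_iff_prime_eq_zero Nat.prime_two).2 ?_
  have hc := Nat.cast_card_eq_zero F
  rw [hF, Nat.cast_pow] at hc
  exact (pow_eq_zero_iff (by omega)).1 hc

theorem card_psl_two_pow (hn : 1 ≤ n) (hF : Fintype.card F = 2 ^ n) :
    Nat.card (Matrix.ProjectiveSpecialLinearGroup (Fin 2) F) = 2 ^ n * ((2 ^ n) ^ 2 - 1) := by
  haveI := charP_two hn hF
  rw [← Nat.card_congr (CfsgLib.SL2Char2.slEquivPSL (F := F)).toEquiv, ← hF]
  exact CfsgLib.SL2C.card_SL2_mul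

theorem spectrum_psl (hn : 1 ≤ n) (hF : Fintype.card F = 2 ^ n)
    (g : Matrix.ProjectiveSpecialLinearGroup (Fin 2) F) :
    orderOf g ∣ 2 ∨ orderOf g ∣ 2 ^ n - 1 ∨ orderOf g ∣ 2 ^ n + 1 := by
  haveI := charP_two hn hF
  haveI : Fact (Nat.Prime 2) := ⟨Nat.prime_two⟩
  have hg : Nat.gcd 2 (Fintype.card F - 1) = 1 := by
    refine (Nat.prime_two.coprime_iff_not_dvd).2 ?_
    have : 2 ∣ 2 ^ n := dvd_pow_self 2 (by omega)
    have : 0 < 2 ^ n := by positivity
    omega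
  have := CfsgLib.PSL2Spec.orderOf_dvd (F := F) 2 g
  rwa [hg, Nat.div_one, Nat.div_one, hF] at this

theorem isCIT_psl (hn : 1 ≤ n) (hF : Fintype.card F = 2 ^ n) :
    IsCIT (Matrix.ProjectiveSpecialLinearGroup (Fin 2) F) := by
  refine isCIT_of_no_two_mul fun r hr hr2 => ?_
  rintro ⟨x, hx⟩
  have h2 : 2 ∣ 2 ^ n := dvd_pow_self 2 (by omega)
  have : 0 < 2 ^ n := by positivity
  rcases spectrum_psl hn hF x with h | h | h <;> rw [hx] at h
  · have h1 := Nat.le_of_dvd two_pos h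
    have := hr.two_le
    omega
  · have := (dvd_mul_right 2 r).trans h; omega
  · have := (dvd_mul_right 2 r).trans h; omega

theorem psl_not_adj (hn : 1 ≤ n) (hF : Fintype.card F = 2 ^ n) {r s : ℕ} (hr : r.Prime) (hs : s.Prime)
    (hr2 : r ≠ 2) (hs2 : s ≠ 2) (hrq : r ∣ 2 ^ n - 1) (hsq : s ∣ 2 ^ n + 1) :
    ¬ ∃ x : Matrix.ProjectiveSpecialLinearGroup (Fin 2) F, orderOf x = r * s := by
  rintro ⟨x, hx⟩
  have : 0 < 2 ^ n := by positivity
  have hkey : ∀ t : ℕ, t.Prime → t ∣ 2 ^ n - 1 → t ∣ 2 ^ n + 1 → t = 2 := fun t ht h1 h2 => by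
    have := Nat.dvd_sub h2 h1
    rw [show 2 ^ n + 1 - (2 ^ n - 1) = 2 by omega] at this
    exact (Nat.prime_dvd_prime_iff_eq ht Nat.prime_two).1 this
  rcases spectrum_psl hn hF x with h | h | h <;> rw [hx] at h
  · exact hr2 ((Nat.prime_dvd_prime_iff_eq hr Nat.prime_two).1 ((dvd_mul_right r s).trans h))
  · exact hs2 (hkey s hs ((dvd_mul_left s r).trans h) hsq)
  · exact hr2 (hkey r hr hrq ((dvd_mul_right r s).trans h))

end psl

section sz

open CfsgLib.Suzuki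

variable {F : Type u} [Field F] [Fintype F] {m : ℕ}

theorem card_lieSz (hm : 1 ≤ m) (hF : Fintype.card F = 2 ^ (2 * m + 1)) :
    Nat.card (Cfsg.Lie.Sz F (2 ^ (m + 1))) =
      (2 ^ (2 * m + 1)) ^ 2 * ((2 ^ (2 * m + 1)) ^ 2 + 1) * (2 ^ (2 * m + 1) - 1) := by
  have h := isSzField_of_card hm hF
  rw [← Nat.card_congr (lieEquiv h).toEquiv, card_Sz h, h.card]

theorem isCIT_lieSz (hm : 1 ≤ m) (hF : Fintype.card F = 2 ^ (2 * m + 1)) :
    IsCIT (Cfsg.Lie.Sz F (2 ^ (m + 1))) := by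
  have h := isSzField_of_card hm hF
  haveI := CfsgLib.Suzuki.finite_SL h
  refine IsCIT.of_injective ?_ (lieEquiv h).symm.toMonoidHom (lieEquiv h).symm.injective
  intro t ht
  rcases centralizer_cases h (g := t) (CfsgLib.Invol.ne_one ht) with ⟨c, -, hC⟩ | ⟨-, hk⟩
  · have hU : IsPGroup 2 (unip h) := IsPGroup.of_card (n := 2 * (2 * m + 1)) (by
      rw [card_unip h, h.card, ← pow_mul, mul_comm])
    refine hU.of_injective
      (((MulAut.conj c).toMonoidHom.comp (Subgroup.centralizer ({t} : Set (SzG F m))).subtype).codRestrict _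
        fun x => hC x x.2) fun a b e => ?_
    exact Subtype.ext ((MulAut.conj c).injective (congrArg Subtype.val e))
  · refine absurd ?_ (torusOrders_odd h hk)
    rw [← ht]
    exact Subgroup.orderOf_dvd_natCard _ (Subgroup.mem_centralizer_singleton_iff.2 rfl)

theorem lieSz_not_adj (hm : 1 ≤ m) (hF : Fintype.card F = 2 ^ (2 * m + 1)) {r s : ℕ} (hr : r.Prime)
    (hs : s.Prime) (hr2 : r ≠ 2) (hs2 : s ≠ 2) (hrq : r ∣ 2 ^ (2 * m + 1) - 1)
    (hsq : s ∣ (2 ^ (2 * m + 1)) ^ 2 + 1) :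
    ¬ ∃ x : Cfsg.Lie.Sz F (2 ^ (m + 1)), orderOf x = r * s := by
  have h := isSzField_of_card hm hF
  haveI := CfsgLib.Suzuki.finite_SL h
  rintro ⟨y, hy⟩
  set x := (lieEquiv h).symm y
  have hx : orderOf x = r * s := (MulEquiv.orderOf_eq _ _).trans hy
  have hx1 : x ≠ 1 := fun e => by
    rw [e, orderOf_one] at hx
    exact hr.one_lt.ne' (Nat.eq_one_of_mul_eq_one_right hx.symm)
  rcases centralizer_cases h hx1 with ⟨c, hc, -⟩ | ⟨-, hk⟩
  · have hU : IsPGroup 2 (unip h) := IsPGroup.of_card (n := 2 * (2 * m + 1)) (by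
      rw [card_unip h, h.card, ← pow_mul, mul_comm])
    obtain ⟨j, hj⟩ := IsPGroup.iff_orderOf.1 hU ⟨_, hc⟩
    rw [Subgroup.orderOf_mk, CfsgLib.Invol.orderOf_conj_eq, hx] at hj
    exact hr2 ((Nat.prime_dvd_prime_iff_eq hr Nat.prime_two).1
      (hr.dvd_of_dvd_pow (hj ▸ dvd_mul_right r s)))
  · have hd : r * s ∣ Nat.card (Subgroup.centralizer ({x} : Set (SzG F m))) := by
      rw [← hx]
      exact Subgroup.orderOf_dvd_natCard _ (Subgroup.mem_centralizer_singleton_iff.2 rfl)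
    have hq : 2 ^ (2 * m + 1) - 1 ∈ torusOrders m := Set.mem_insert _ _
    by_cases hkq : Nat.card (Subgroup.centralizer ({x} : Set (SzG F m))) = 2 ^ (2 * m + 1) - 1
    · rw [hkq] at hd
      have h1 : s ∣ 2 ^ (2 * m + 1) - 1 := (dvd_mul_left s r).trans hd
      have hpos : 1 ≤ 2 ^ (2 * m + 1) := Nat.one_le_two_pow
      have h2 : s ∣ (2 ^ (2 * m + 1)) ^ 2 - 1 := by
        have e := Nat.sq_sub_sq (2 ^ (2 * m + 1)) 1
        rw [one_pow] at e
        rw [e]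
        exact dvd_mul_of_dvd_right h1 _
      have h3 := Nat.dvd_sub hsq h2
      have : 1 ≤ (2 ^ (2 * m + 1)) ^ 2 := Nat.one_le_pow _ _ (by positivity)
      rw [show (2 ^ (2 * m + 1)) ^ 2 + 1 - ((2 ^ (2 * m + 1)) ^ 2 - 1) = 2 by omega] at h3
      exact hs2 ((Nat.prime_dvd_prime_iff_eq hs Nat.prime_two).1 h3)
    · exact hr.ne_one (Nat.eq_one_of_dvd_coprimes (torusOrders_coprime h hk hq hkq)
        ((dvd_mul_right r s).trans hd) hrq)

/-- `Sz(q)` only depends on the field up to isomorphism. -/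
theorem lieSz_congr {F' : Type v} [Field F'] (f : F ≃+* F') (e : ℕ) :
    Nonempty (Cfsg.Lie.Sz F e ≃* Cfsg.Lie.Sz F' e) := by
  set M : GL (Fin 4) F ≃* GL (Fin 4) F' := Units.mapEquiv f.mapMatrix.toMulEquiv
  refine ⟨((Cfsg.Lie.Sz F e).equivMapOfInjective M.toMonoidHom M.injective).trans
    (MulEquiv.subgroupCongr ?_)⟩
  have hcond : ∀ g : GL (Fin 4) F, (g ∈ Cfsg.Lie.Sp4 F ∧ Cfsg.Lie.star4 (g : Matrix (Fin 4) (Fin 4) F) =
      (g : Matrix (Fin 4) (Fin 4) F).map (fun x => x ^ e)) →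
      (M g ∈ Cfsg.Lie.Sp4 F' ∧ Cfsg.Lie.star4 (M g : Matrix (Fin 4) (Fin 4) F') =
      (M g : Matrix (Fin 4) (Fin 4) F').map (fun x => x ^ e)) := by
    rintro g ⟨hg, hs⟩
    have hval : (M g : Matrix (Fin 4) (Fin 4) F') = (g : Matrix (Fin 4) (Fin 4) F).map f := rfl
    refine ⟨fun u w => ?_, ?_⟩
    · have := congrArg f (hg (fun i => f.symm (u i)) (fun i => f.symm (w i)))
      simpa [Cfsg.Lie.altForm4, hval, Units.coeHom_apply, Matrix.mulVec, dotProduct, Fin.sum_univ_four]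
        using this
    · ext i j
      have := congrArg f (congrFun (congrFun hs i) j)
      simpa [Cfsg.Lie.star4, hval] using this
  have hcond' : ∀ g : GL (Fin 4) F', (g ∈ Cfsg.Lie.Sp4 F' ∧ Cfsg.Lie.star4 (g : Matrix (Fin 4) (Fin 4) F') =
      (g : Matrix (Fin 4) (Fin 4) F').map (fun x => x ^ e)) →
      (M.symm g ∈ Cfsg.Lie.Sp4 F ∧ Cfsg.Lie.star4 (M.symm g : Matrix (Fin 4) (Fin 4) F) =
      (M.symm g : Matrix (Fin 4) (Fin 4) F).map (fun x => x ^ e)) := by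
    rintro g ⟨hg, hs⟩
    have hval : (M.symm g : Matrix (Fin 4) (Fin 4) F) = (g : Matrix (Fin 4) (Fin 4) F').map f.symm := rfl
    refine ⟨fun u w => ?_, ?_⟩
    · have := congrArg f.symm (hg (fun i => f (u i)) (fun i => f (w i)))
      simpa [Cfsg.Lie.altForm4, hval, Units.coeHom_apply, Matrix.mulVec, dotProduct, Fin.sum_univ_four]
        using this
    · ext i j
      have := congrArg f.symm (congrFun (congrFun hs i) j)
      simpa [Cfsg.Lie.star4, hval] using this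
  rw [Cfsg.Lie.Sz, Cfsg.Lie.Sz, MonoidHom.map_closure]
  congr 1
  ext g
  constructor
  · rintro ⟨g₀, hg₀, rfl⟩
    exact hcond g₀ hg₀
  · intro hg
    exact ⟨M.symm g, hcond' g hg, M.apply_symm_apply g⟩

end sz

end CfsgLib.CITGraph
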