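import Cfsg.Agent.CITGroups.Basic
import Cfsg.Agent.CITGroups.Strong

/-!
CIT groups and prime graphs: elementary lemmas.
-/

set_option autoImplicit false
set_option linter.style.haveILetI false
set_option linter.unusedSectionVars false

namespace CfsgLib.CITGraph

open Subgroup CfsgLib.CIT

universe u

variable {G : Type u} [Group G] [Finite G]

theorem exists_orderOf_of_dvd {g : G} {n : ℕ} (hn : n ∣ orderOf g) : ∃ x : G, orderOf x = n :=
  ⟨g ^ (orderOf g / n), orderOf_pow_orderOf_div (orderOf_pos g).ne' hn⟩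

/-- No element of order `2r`, for odd primes `r`, gives the CIT property. -/
theorem isCIT_of_no_two_mul (h : ∀ r : ℕ, r.Prime → r ≠ 2 → ¬ ∃ x : G, orderOf x = 2 * r) :
    IsCIT G := by
  intro t ht
  haveI : Fact (Nat.Prime 2) := ⟨Nat.prime_two⟩
  set C := centralizer ({t} : Set G)
  rw [IsPGroup.iff_card]
  have hall : ∀ r : ℕ, r.Prime → r ∣ Nat.card C → r = 2 := fun r hr hrd => by
    by_contra hr2
    haveI := Fact.mk hr
    obtain ⟨x, hx⟩ := exists_prime_orderOf_dvd_card' (G := C) r hrd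
    have hc : Commute t (x : G) := mem_centralizer_self_iff.1 x.2
    exact h r hr hr2 ⟨t * x, by
      rw [hc.orderOf_mul_eq_mul_orderOf_of_coprime (by
        rw [ht, orderOf_coe, hx]; exact (Nat.coprime_primes Nat.prime_two hr).2 (Ne.symm hr2)),
        ht, orderOf_coe, hx]⟩
  exact ⟨_, Nat.eq_prime_pow_of_unique_prime_dvd Nat.card_pos.ne' fun hd hdd => hall _ hd hdd⟩

/-- In a CIT group there is no element of order `2r`, `r` an odd prime. -/
theorem no_two_mul (h : IsCIT G) {r : ℕ} (hr : r.Prime) (hr2 : r ≠ 2) :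
    ¬ ∃ x : G, orderOf x = 2 * r := by
  rintro ⟨x, hx⟩
  rcases h.odd_or_two_pow x with ho | ⟨k, hk⟩
  · exact Nat.not_even_iff_odd.2 ho ⟨r, by rw [hx]; ring⟩
  · have : r ∣ 2 ^ k := by rw [← hk, hx]; exact dvd_mul_left r 2
    exact hr2 ((Nat.prime_dvd_prime_iff_eq hr Nat.prime_two).1 (hr.dvd_of_dvd_pow this))

/-- An element of the quotient lifts to one of the same order. -/
theorem exists_orderOf_lift (N : Subgroup G) [N.Normal] {n : ℕ} (h : ∃ y : G ⧸ N, orderOf y = n) :
    ∃ x : G, orderOf x = n := by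
  obtain ⟨y, rfl⟩ := h
  obtain ⟨x, rfl⟩ := QuotientGroup.mk_surjective y
  exact exists_orderOf_of_dvd (g := x) (orderOf_map_dvd (QuotientGroup.mk' N) x)

theorem prime_dvd_quotient_iff {N : Subgroup G} [N.Normal] (hN : IsPGroup 2 N) {r : ℕ} (hr : r.Prime)
    (hr2 : r ≠ 2) : r ∣ Nat.card (G ⧸ N) ↔ r ∣ Nat.card G := by
  haveI : Fact (Nat.Prime 2) := ⟨Nat.prime_two⟩
  obtain ⟨k, hk⟩ := hN.exists_card_eq
  rw [card_eq_card_quotient_mul_card_subgroup N, hk]
  refine ⟨fun h => dvd_mul_of_dvd_left h _, fun h => (hr.dvd_mul.1 h).resolve_right fun h2 => hr2 ?_⟩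
  exact (Nat.prime_dvd_prime_iff_eq hr Nat.prime_two).1 (hr.dvd_of_dvd_pow h2)

/-- A prime dividing the order of a group but not that of a normal subgroup `N`: an element of that
order normalises a Sylow `p`-subgroup of `N`, so it either centralises a nontrivial element of it
or the order of that Sylow subgroup is `1` modulo the prime. -/
theorem extra_prime (N : Subgroup G) [N.Normal] {p r : ℕ} (hp : p.Prime) (hr : r.Prime)
    (hrG : r ∣ Nat.card G) (hrN : ¬ r ∣ Nat.card N) (P : Sylow p N) :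
    r ∣ Nat.card (P : Subgroup N) - 1 ∨
      ∃ z y : G, z ≠ 1 ∧ (∃ k : ℕ, z ^ p ^ k = 1) ∧ orderOf y = r ∧ Commute z y := by
  haveI := Fact.mk hp
  haveI := Fact.mk hr
  set S : Subgroup G := (P : Subgroup N).map N.subtype with hS
  have hfr : normalizer (S : Set G) ⊔ N = ⊤ := Sylow.normalizer_sup_eq_top P
  set H := normalizer (S : Set G) with hH
  have hrH : r ∣ Nat.card H := by
    have h1 := card_eq_card_quotient_mul_card_subgroup N
    have h2 : r ∣ Nat.card (G ⧸ N) := (hr.dvd_mul.1 (h1 ▸ hrG)).resolve_right hrN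
    refine h2.trans ?_
    have hsurj : Function.Surjective ((QuotientGroup.mk' N).comp H.subtype) := by
      intro q
      obtain ⟨g, rfl⟩ := QuotientGroup.mk_surjective q
      obtain ⟨a, ha, b, hb, rfl⟩ := Subgroup.mem_sup_of_normal_right.1 (show g ∈ H ⊔ N from hfr ▸ mem_top g)
      exact ⟨⟨a, ha⟩, QuotientGroup.eq.2 (by simpa using hb)⟩
    exact card_dvd_of_surjective _ hsurj
  obtain ⟨y, hy⟩ := exists_prime_orderOf_dvd_card' (G := H) r hrH
  have hcardS : Nat.card S = Nat.card (P : Subgroup N) := card_map_of_injective N.subtype_injective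
  set R := zpowers y with hR
  have hRp : IsPGroup r R := IsPGroup.of_card (n := 1) (by rw [Nat.card_zpowers, hy, pow_one])
  let φ : R →* MulAut S := S.normalizerMonoidHom.comp R.subtype
  letI : MulAction R S := MulAction.compHom S φ
  have hval : ∀ (a : R) (z : S), ((a • z : S) : G) = ((a : H) : G) * z * ((a : H) : G)⁻¹ :=
    fun a z => rfl
  have hmod := hRp.card_modEq_card_fixedPoints S
  by_cases htriv : ∀ z : S, z ∈ MulAction.fixedPoints R S → z = 1
  · left
    have h1 : Nat.card (MulAction.fixedPoints R S) = 1 := by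
      refine Nat.card_eq_one_iff_unique.2 ⟨⟨fun a b => Subtype.ext ((htriv _ a.2).trans (htriv _ b.2).symm)⟩,
        ⟨⟨1, fun a => Subtype.ext (by rw [hval]; simp)⟩⟩⟩
    rw [h1, hcardS] at hmod
    exact (Nat.modEq_iff_dvd' Nat.card_pos).1 hmod.symm
  · right
    push Not at htriv
    obtain ⟨z, hz, hz1⟩ := htriv
    obtain ⟨k, hk⟩ := (P.isPGroup'.map N.subtype) z
    refine ⟨z, (y : G), fun e => hz1 (Subtype.ext e), ⟨k, congrArg Subtype.val hk⟩,
      by rw [orderOf_coe, hy], ?_⟩
    have := congrArg Subtype.val (hz ⟨y, mem_zpowers y⟩)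
    rw [hval] at this
    exact (mul_inv_eq_iff_eq_mul.1 this).symm

/-- In a CIT group a prime dividing the order but not that of a normal subgroup `N` divides `|S| - 1`
for a Sylow 2-subgroup `S` of `N`. -/
theorem extra_prime_two (h : IsCIT G) (N : Subgroup G) [N.Normal] {r : ℕ} (hr : r.Prime) (hr2 : r ≠ 2)
    (hrG : r ∣ Nat.card G) (hrN : ¬ r ∣ Nat.card N) (P : Sylow 2 N) :
    r ∣ Nat.card (P : Subgroup N) - 1 := by
  rcases extra_prime N Nat.prime_two hr hrG hrN P with h1 | ⟨z, y, hz, ⟨k, hk⟩, hy, hc⟩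
  · exact h1
  · refine absurd (h.eq_one_of_commute' hz hk hc (hy ▸ hr.odd_of_ne_two hr2)) fun e => ?_
    rw [e, orderOf_one] at hy
    exact hr.one_lt.ne hy

/-- If a Sylow `p`-subgroup of the normal subgroup `N` has order `p`, a prime dividing the order of
the group but not that of `N` divides `p - 1` or is adjacent to `p`. -/
theorem extra_prime_cyclic (N : Subgroup G) [N.Normal] {p r : ℕ} (hp : p.Prime) (hr : r.Prime)
    (hpr : p ≠ r) (hrG : r ∣ Nat.card G) (hrN : ¬ r ∣ Nat.card N) (P : Sylow p N)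
    (hP : Nat.card (P : Subgroup N) = p) : r ∣ p - 1 ∨ ∃ x : G, orderOf x = r * p := by
  rcases extra_prime N hp hr hrG hrN P with h1 | ⟨z, y, hz, ⟨k, hk⟩, hy, hc⟩
  · exact Or.inl (hP ▸ h1)
  · right
    obtain ⟨j, -, hj⟩ := (Nat.dvd_prime_pow hp).1 (orderOf_dvd_of_pow_eq_one hk)
    have hj0 : j ≠ 0 := fun e => hz (orderOf_eq_one_iff.1 (by rw [hj, e, pow_zero]))
    refine exists_orderOf_of_dvd (g := z * y) ?_
    rw [hc.orderOf_mul_eq_mul_orderOf_of_coprime (by
      rw [hj, hy]; exact ((Nat.coprime_primes hp hr).2 hpr).pow_left j), hj, hy, mul_comm r p]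
    exact mul_dvd_mul_right (dvd_pow_self p hj0) r

end CfsgLib.CITGraph
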