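import Cfsg.Agent.CITGraph.Main
import Cfsg.Agent.CITGroups.Final
import Cfsg.Agent.Char.Burnside

/-!
The list of simple CIT groups in the form used for prime graphs.
-/

set_option autoImplicit false

namespace CfsgLib.CITGraph

open Subgroup CfsgLib.CIT

universe u

theorem listed (T : Type u) [Group T] [Finite T] (hs : IsSimpleGroup T) (h : IsCIT T)
    (hns : ¬ Group.IsSolvable T) : Listed T := by
  rcases outcome noFpf_of_second h hns with
    ⟨K, S, D, w, Z⟩ | ⟨-, F, hf, hfi, hodd, he⟩ | ⟨hse, q, M, X, V, E, S, D, w, w', hS⟩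
  · exact Or.inl ⟨K, S, D, w, Z⟩
  · refine Or.inr (Or.inl ⟨F, hf, hfi, ?_, he⟩)
    rcases psl_list h hns F he with h9 | ⟨n, hn⟩ | ⟨hp, k, hk⟩
    · exact Or.inl h9
    · rcases n with _ | n
      · have := Fintype.one_lt_card (α := F)
        rw [hn] at this
        norm_num at this
      · rw [hn] at hodd
        exact absurd hodd (Nat.not_odd_iff_even.2 (Nat.even_pow.2 ⟨even_two, by omega⟩))
    · refine Or.inr ⟨hp, ?_, k, hk⟩
      by_contra hlt
      have h3 : Fintype.card F = 3 := by
        have h1 := hp.two_le
        have h2 : Fintype.card F ≠ 4 := fun e => by rw [e] at hp; norm_num at hp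
        have h4 : Fintype.card F ≠ 2 := fun e => by rw [e] at hodd; exact absurd hodd (by decide)
        omega
      have hc := card_psl_odd hodd
      rw [h3] at hc
      exact hns (CfsgLib.Char.isSolvable_of_card_eq 2 3 2 1 Nat.prime_two Nat.prime_three
        (by rw [Nat.card_congr he.some.toEquiv]; omega))
  · exact Or.inr (Or.inr (hS.exists_psl h hse))

end CfsgLib.CITGraph
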