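import Cfsg.Agent.CITGraph.Socle
import Cfsg.Agent.CITGraph.Models
import Cfsg.Agent.CITGroups.Iso
import Cfsg.Agent.CITGroups.Lift
import Cfsg.Agent.PrimeGraph.Lucido
import Cfsg.Agent.KGroup.Primitive2
import Cfsg.Agent.InvChar.OneSixtyEight
import Cfsg.Agent.GLElem.PSL2Classes

/-!
Groups with the prime graph of `PSL(2,2^m)` or `Sz(q)`, given the list of simple CIT groups.
-/

set_option autoImplicit false
set_option linter.style.haveILetI false
set_option linter.unusedSectionVars false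

namespace CfsgLib.CITGraph

open Subgroup CfsgLib.CIT

universe u v

/-- The possibilities for a simple CIT group. -/
def Listed (T : Type u) [Group T] : Prop :=
  (∃ (K S D : Subgroup T) (w : T), ZData K S D w) ∨
    (∃ (F : Type) (_ : Field F) (_ : Fintype F),
      (Fintype.card F = 9 ∨ ((Fintype.card F).Prime ∧ 5 ≤ Fintype.card F ∧
        ∃ k : ℕ, Fintype.card F = 2 ^ k + 1 ∨ Fintype.card F + 1 = 2 ^ k)) ∧
      Nonempty (T ≃* Matrix.ProjectiveSpecialLinearGroup (Fin 2) F)) ∨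
    ∃ (F : Type) (_ : Field F) (_ : Fintype F), Fintype.card F = 4 ∧
      Nonempty (T ≃* Matrix.ProjectiveSpecialLinearGroup (Fin 3) F)

/-- Two groups have the same prime graph. -/
def SameGraph (L : Type v) (G : Type u) [Group L] [Group G] : Prop :=
  (∀ r : ℕ, r.Prime → (r ∣ Nat.card L ↔ r ∣ Nat.card G)) ∧
    ∀ r s : ℕ, r.Prime → s.Prime → r ≠ s →
      ((∃ x : L, orderOf x = r * s) ↔ ∃ y : G, orderOf y = r * s)

section setting

variable {G : Type u} [Group G] [Finite G] {L : Type v} [Group L] [Finite L]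

theorem SameGraph.isCIT (h : SameGraph L G) (hL : IsCIT L) : IsCIT G :=
  isCIT_of_no_two_mul fun r hr hr2 hx => no_two_mul hL hr hr2 ((h.2 2 r Nat.prime_two hr (Ne.symm hr2)).2 hx)

theorem SameGraph.not_solvable (h : SameGraph L G) (hL : IsCIT L) {r s : ℕ} (hr : r.Prime) (hs : s.Prime)
    (hr2 : r ≠ 2) (hs2 : s ≠ 2) (hrs : r ≠ s) (h2L : 2 ∣ Nat.card L) (hrL : r ∣ Nat.card L)
    (hsL : s ∣ Nat.card L) (hno : ¬ ∃ x : L, orderOf x = r * s) : ¬ Group.IsSolvable G := fun _ =>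
  CfsgLib.Lucido.no_coclique_of_solvable Nat.prime_two hr hs (Ne.symm hr2) (Ne.symm hs2) hrs
    ((h.1 2 Nat.prime_two).1 h2L) ((h.1 r hr).1 hrL) ((h.1 s hs).1 hsL)
    (fun hx => no_two_mul hL hr hr2 ((h.2 2 r Nat.prime_two hr (Ne.symm hr2)).2 hx))
    (fun hx => no_two_mul hL hs hs2 ((h.2 2 s Nat.prime_two hs (Ne.symm hs2)).2 hx))
    (fun hx => hno ((h.2 r s hr hs hrs).2 hx))

/-- The quotient by the 2-core: a CIT group with a simple normal subgroup, odd primes and their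
non-adjacency as in `L`. -/
theorem SameGraph.exists_socle (h : SameGraph L G) (hL : IsCIT L) (hns : ¬ Group.IsSolvable G)
    (hcl : ∀ (T : Type u) [Group T] [Finite T], IsSimpleGroup T → IsCIT T → ¬ Group.IsSolvable T → Listed T)
    [(Cfsg.pCore 2 G).Normal] :
    IsCIT (G ⧸ Cfsg.pCore 2 G) ∧
      (∀ r : ℕ, r.Prime → r ≠ 2 → (r ∣ Nat.card (G ⧸ Cfsg.pCore 2 G) ↔ r ∣ Nat.card L)) ∧
      (∀ r s : ℕ, r.Prime → s.Prime → r ≠ s → (¬ ∃ x : L, orderOf x = r * s) →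
        ¬ ∃ y : G ⧸ Cfsg.pCore 2 G, orderOf y = r * s) ∧
      ∃ (N : Subgroup (G ⧸ Cfsg.pCore 2 G)) (_ : N.Normal), IsSimpleGroup N ∧ Listed N := by
  haveI : Fact (Nat.Prime 2) := ⟨Nat.prime_two⟩
  have hO := CfsgLib.Solvable.isPGroup_pCore (G := G) 2
  have hY : IsCIT (G ⧸ Cfsg.pCore 2 G) := (h.isCIT hL).quotient _ hO
  have hYns : ¬ Group.IsSolvable (G ⧸ Cfsg.pCore 2 G) := fun hs => hns (by
    haveI := hs
    haveI := hO.isNilpotent
    exact Group.isSolvable_of_ker_le_range (Cfsg.pCore 2 G).subtype (QuotientGroup.mk' (Cfsg.pCore 2 G)) (by simp))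
  refine ⟨hY, fun r hr hr2 => (prime_dvd_quotient_iff hO hr hr2).trans (h.1 r hr).symm,
    fun r s hr hs hrs hno hy => hno ((h.2 r s hr hs hrs).2 (exists_orderOf_lift _ hy)), ?_⟩
  obtain ⟨N, hNn, hN, hNns⟩ := hY.exists_simple_normal hYns pCore_quot_eq_bot
  exact ⟨N, hNn, hN, hcl N hN (hY.subgroup N) hNns⟩

end setting

/-! ### Arithmetic -/

theorem eq_pow_of_two_pow_mul {a b x y : ℕ} (hx : Odd x) (hy : Odd y) (h : 2 ^ a * x = 2 ^ b * y) :
    2 ^ a = 2 ^ b :=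
  Nat.dvd_antisymm
    (((Nat.coprime_two_left.2 hy).pow_left a).dvd_of_dvd_mul_right (h ▸ dvd_mul_right _ _))
    (((Nat.coprime_two_left.2 hx).pow_left b).dvd_of_dvd_mul_right (h.symm ▸ dvd_mul_right _ _))

theorem two_pow_sq (n : ℕ) : (2 ^ n) ^ 2 = 2 ^ (2 * n) := by rw [← pow_mul, mul_comm]

theorem dvd_pow_sub_one_of_dvd_plus {r n : ℕ} (h : r ∣ 2 ^ n + 1) : r ∣ 2 ^ (2 * n) - 1 := by
  have e := Nat.sq_sub_sq (2 ^ n) 1
  rw [one_pow, two_pow_sq] at e
  rw [e]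
  exact dvd_mul_of_dvd_left h _

theorem dvd_plus_or_minus {r n : ℕ} (hr : r.Prime) (h : r ∣ 2 ^ (2 * n) - 1) :
    r ∣ 2 ^ n + 1 ∨ r ∣ 2 ^ n - 1 := by
  have e := Nat.sq_sub_sq (2 ^ n) 1
  rw [one_pow, two_pow_sq] at e
  exact hr.dvd_mul.1 (e ▸ h)

theorem odd_of_prim {r o : ℕ} (hr : r.Prime) (ho : 1 ≤ o) (h : r ∣ 2 ^ o - 1) : r ≠ 2 := by
  rintro rfl
  have h1 : 2 ∣ 2 ^ o := dvd_pow_self 2 (by omega)
  have h2 : 1 ≤ 2 ^ o := Nat.one_le_two_pow
  omega

theorem prime_dvd_psl_two_pow {r n : ℕ} (hr : r.Prime) (hr2 : r ≠ 2) :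
    r ∣ 2 ^ n * ((2 ^ n) ^ 2 - 1) ↔ r ∣ 2 ^ (2 * n) - 1 := by
  rw [two_pow_sq]
  refine ⟨fun h => (hr.dvd_mul.1 h).resolve_left fun h1 => hr2 ?_, fun h => dvd_mul_of_dvd_right h _⟩
  exact (Nat.prime_dvd_prime_iff_eq hr Nat.prime_two).1 (hr.dvd_of_dvd_pow h1)

theorem not_three_dvd_sz (m : ℕ) :
    ¬ 3 ∣ (2 ^ (2 * m + 1)) ^ 2 * ((2 ^ (2 * m + 1)) ^ 2 + 1) * (2 ^ (2 * m + 1) - 1) := by
  have hq : 2 ^ (2 * m + 1) % 3 = 2 := by
    rw [pow_succ, pow_mul, Nat.mul_mod, Nat.pow_mod]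
    norm_num
  have hq2 : (2 ^ (2 * m + 1)) ^ 2 % 3 = 1 := by rw [Nat.pow_mod, hq]
  intro h
  generalize hQ : (2 ^ (2 * m + 1)) ^ 2 = Q at h hq2
  generalize 2 ^ (2 * m + 1) = q at h hq
  rcases Nat.prime_three.dvd_mul.1 h with h | h
  · rcases Nat.prime_three.dvd_mul.1 h with h | h
    · omega
    · omega
  · omega

theorem prime_dvd_sz {r m : ℕ} (hr : r.Prime) (hr2 : r ≠ 2)
    (h : r ∣ (2 ^ (2 * m + 1)) ^ 2 * ((2 ^ (2 * m + 1)) ^ 2 + 1) * (2 ^ (2 * m + 1) - 1)) :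
    r ∣ 2 ^ (4 * (2 * m + 1)) - 1 := by
  set n := 2 * m + 1
  rcases hr.dvd_mul.1 h with h | h
  · rcases hr.dvd_mul.1 h with h | h
    · exact absurd ((Nat.prime_dvd_prime_iff_eq hr Nat.prime_two).1
        (hr.dvd_of_dvd_pow (hr.dvd_of_dvd_pow h))) hr2
    · rw [two_pow_sq] at h
      rw [show 4 * n = 2 * (2 * n) by ring]
      exact dvd_pow_sub_one_of_dvd_plus h
  · exact h.trans (Nat.pow_sub_one_dvd_pow_sub_one 2 (dvd_mul_left n 4))

/-- A prime `p = 2^k ± 1` against the primitive primes of `2^(2m) - 1` and `2^o - 1`, `o ∣ m`. -/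
theorem fermat_mersenne_false {p k m : ℕ} (hm : 4 ≤ m) (hp : p.Prime) (hp5 : 5 ≤ p)
    (hk : p = 2 ^ k + 1 ∨ p + 1 = 2 ^ k) (hpL : p ∣ 2 ^ (2 * m) - 1)
    (hkey : (p ∣ 2 ^ m - 1 → ∃ r, r.Prime ∧ r ≠ p ∧ r ∣ p * (p ^ 2 - 1) ∧ ∀ j, r ∣ 2 ^ j - 1 ↔ 2 * m ∣ j) ∧
      (p ∣ 2 ^ m + 1 → ∃ r o, r.Prime ∧ r ≠ p ∧ 3 ≤ o ∧ o ∣ m ∧ (o = m ∨ m = 6) ∧ r ∣ p * (p ^ 2 - 1) ∧
        ∀ j, r ∣ 2 ^ j - 1 ↔ o ∣ j)) : False := by
  have hk2 : 2 ≤ k := by
    by_contra hc
    have := Nat.pow_le_pow_right two_pos (by omega : k ≤ 1)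
    rw [pow_one] at this
    generalize 2 ^ k = X at this hk
    omega
  -- every other prime of the order
  have hother : ∀ r o, r.Prime → r ≠ p → 1 ≤ o → r ∣ p * (p ^ 2 - 1) → (∀ j, r ∣ 2 ^ j - 1 ↔ o ∣ j) →
      o ∣ 2 * (k - 1) ∧ (p + 1 = 2 ^ k → o ∣ k - 1) := by
    intro r o hr hrp ho hrT hord
    have hr2 : r ≠ 2 := odd_of_prim hr ho ((hord o).2 dvd_rfl)
    have hrT' : r ∣ p + 1 ∨ r ∣ p - 1 := by
      rcases hr.dvd_mul.1 hrT with h | h
      · exact absurd ((Nat.prime_dvd_prime_iff_eq hr hp).1 h) hrp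
      · have e := Nat.sq_sub_sq p 1
        rw [one_pow] at e
        exact hr.dvd_mul.1 (e ▸ h)
    have hnot : ¬ r ∣ 2 ^ k := fun h =>
      hr2 ((Nat.prime_dvd_prime_iff_eq hr Nat.prime_two).1 (hr.dvd_of_dvd_pow h))
    have hk1 : 2 ^ k = 2 * 2 ^ (k - 1) := by rw [← pow_succ', Nat.sub_add_cancel (by omega : 1 ≤ k)]
    have hone : 1 ≤ 2 ^ (k - 1) := Nat.one_le_two_pow
    rcases hk with hk | hk
    · refine ⟨(hord _).1 (dvd_pow_sub_one_of_dvd_plus ?_), fun h => absurd h (by omega)⟩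
      rcases hrT' with h | h
      · rw [show p + 1 = 2 * (2 ^ (k - 1) + 1) by omega] at h
        exact (hr.dvd_mul.1 h).resolve_left fun h => hr2 ((Nat.prime_dvd_prime_iff_eq hr Nat.prime_two).1 h)
      · rw [show p - 1 = 2 ^ k by omega] at h
        exact absurd h hnot
    · have h' : o ∣ k - 1 := by
        refine (hord _).1 ?_
        rcases hrT' with h | h
        · exact absurd (hk ▸ h) hnot
        · rw [show p - 1 = 2 * (2 ^ (k - 1) - 1) by omega] at h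
          exact (hr.dvd_mul.1 h).resolve_left fun h =>
            hr2 ((Nat.prime_dvd_prime_iff_eq hr Nat.prime_two).1 h)
      exact ⟨dvd_mul_of_dvd_right h' 2, fun _ => h'⟩
  -- the order of 2 modulo `p`
  have hp_gcd : ∀ a : ℕ, p ∣ 2 ^ a - 1 → p ∣ 2 ^ (2 * k) - 1 → p ∣ 2 ^ (Nat.gcd a (2 * k)) - 1 :=
    fun a h1 h2 => by
      rw [← Nat.pow_sub_one_gcd_pow_sub_one]
      exact Nat.dvd_gcd h1 h2
  have hsmall : ∀ g : ℕ, p ∣ 2 ^ g - 1 → 1 ≤ g → k ≤ g ∧ (p = 2 ^ k + 1 → k < g) := fun g h hg => by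
    have h1 : 2 ≤ 2 ^ g := le_of_eq_of_le (pow_one 2).symm (Nat.pow_le_pow_right two_pos hg)
    have h2 := Nat.le_of_dvd (by omega) h
    refine ⟨?_, fun e => ?_⟩
    · by_contra hc
      have hle : 2 * 2 ^ g ≤ 2 ^ k := by rw [← pow_succ']; exact Nat.pow_le_pow_right two_pos (by omega)
      generalize 2 ^ g = X at hle h1 h2
      generalize 2 ^ k = Y at hle hk
      omega
    · exact (Nat.pow_lt_pow_iff_right (a := 2) one_lt_two).1 (by omega)
  rcases dvd_plus_or_minus hp hpL with hplus | hminus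
  · obtain ⟨r, o, hr, hrp, ho, hom, hom', hrT, hord⟩ := hkey.2 hplus
    obtain ⟨h1, h2⟩ := hother r o hr hrp (by omega) hrT hord
    have hnm : ¬ p ∣ 2 ^ m - 1 := fun h => by
      have := Nat.dvd_sub hplus h
      have hone : 1 ≤ 2 ^ m := Nat.one_le_two_pow
      rw [show 2 ^ m + 1 - (2 ^ m - 1) = 2 by omega] at this
      have := Nat.le_of_dvd two_pos this
      omega
    rcases hk with hk | hk
    · have hg := hp_gcd (2 * m) hpL (dvd_pow_sub_one_of_dvd_plus (by rw [hk]))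
      rw [Nat.gcd_mul_left] at hg
      have hgpos : 0 < Nat.gcd m k := Nat.gcd_pos_of_pos_left _ (by omega)
      have hg1 := (hsmall _ hg (by omega)).2 hk
      have hgle := Nat.le_of_dvd (by omega) (Nat.gcd_dvd_right m k)
      have hgk : Nat.gcd m k = k := by
        by_contra hne
        obtain ⟨c, hc⟩ := Nat.gcd_dvd_right m k
        have hc2 : 2 ≤ c := by
          by_contra hc'
          interval_cases c <;> omega
        have : Nat.gcd m k * 2 ≤ k := le_of_le_of_eq (Nat.mul_le_mul_left _ hc2) hc.symm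
        omega
      have hkm : k ∣ m := hgk ▸ Nat.gcd_dvd_left m k
      rcases hom' with rfl | rfl
      · have : k ∣ 2 * (k - 1) := hkm.trans h1
        have h3 : k ∣ 2 := by
          have := Nat.dvd_sub (dvd_mul_left k 2) this
          rwa [show 2 * k - 2 * (k - 1) = 2 by omega] at this
        have hk' : k = 2 := le_antisymm (Nat.le_of_dvd two_pos h3) hk2
        subst hk'
        have := Nat.le_of_dvd (by norm_num) h1
        omega
      · have : k ≤ 6 := Nat.le_of_dvd (by norm_num) hkm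
        interval_cases k
        · have := Nat.le_of_dvd (by norm_num) h1
          omega
        all_goals first
          | omega
          | (subst hk; norm_num at hp)
    · have hkk : p ∣ 2 ^ k - 1 := by rw [← hk, Nat.add_sub_cancel]
      have hg := hp_gcd (2 * m) hpL (hkk.trans (Nat.pow_sub_one_dvd_pow_sub_one 2 (dvd_mul_left k 2)))
      have hg' : p ∣ 2 ^ (Nat.gcd (2 * m) k) - 1 := by
        rw [← Nat.pow_sub_one_gcd_pow_sub_one]
        exact Nat.dvd_gcd hpL hkk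
      have hpos : 0 < Nat.gcd (2 * m) k := Nat.gcd_pos_of_pos_left _ (by omega)
      have hgk : Nat.gcd (2 * m) k = k :=
        le_antisymm (Nat.le_of_dvd (by omega) (Nat.gcd_dvd_right _ _)) (hsmall _ hg' hpos).1
      have hk2m : k ∣ 2 * m := hgk ▸ Nat.gcd_dvd_left _ _
      -- `k` is even, so `k = 2`
      have hev : 2 ∣ k := by
        by_contra hodd
        exact hnm (hkk.trans (Nat.pow_sub_one_dvd_pow_sub_one 2
          (((Nat.prime_two.coprime_iff_not_dvd).2 hodd).symm.dvd_of_dvd_mul_left hk2m)))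
      obtain ⟨c, rfl⟩ := hev
      have e := Nat.sq_sub_sq (2 ^ c) 1
      rw [one_pow, two_pow_sq] at e
      have hp' : p = (2 ^ c + 1) * (2 ^ c - 1) := by omega
      have : 2 ^ 1 ≤ 2 ^ c := Nat.pow_le_pow_right two_pos (by omega)
      rcases Nat.prime_mul_iff.1 (hp' ▸ hp) with ⟨-, h⟩ | ⟨-, h⟩
      · have : (2 ^ c + 1) * (2 ^ c - 1) = 2 ^ c + 1 := by rw [h, mul_one]
        omega
      · omega
  · obtain ⟨r, hr, hrp, hrT, hord⟩ := hkey.1 hminus
    obtain ⟨h1, h2⟩ := hother r (2 * m) hr hrp (by omega) hrT hord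
    rcases hk with hk | hk
    · have hg := hp_gcd m hminus (dvd_pow_sub_one_of_dvd_plus (by rw [hk]))
      have hpos : 0 < Nat.gcd m (2 * k) := Nat.gcd_pos_of_pos_left _ (by omega)
      have := (hsmall _ hg hpos).2 hk
      have := Nat.le_of_dvd (by omega) (Nat.gcd_dvd_left m (2 * k))
      have := Nat.le_of_dvd (by omega) (Nat.dvd_of_mul_dvd_mul_left two_pos h1)
      omega
    · have := (hsmall m hminus (by omega)).1
      have := Nat.le_of_dvd (by omega) (h2 hk)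
      omega

/-! ### Orders of the listed groups -/

theorem card_psl_odd {F : Type} [Field F] [Fintype F] (hodd : Odd (Fintype.card F)) :
    2 * Nat.card (Matrix.ProjectiveSpecialLinearGroup (Fin 2) F) =
      Fintype.card F * (Fintype.card F ^ 2 - 1) :=
  CfsgLib.PSL2Classes.card_P2_mul hodd

theorem card_psl_three_four {F : Type} [Field F] [Fintype F] (hF : Fintype.card F = 4) :
    Nat.card (Matrix.ProjectiveSpecialLinearGroup (Fin 3) F) = 20160 := by
  have h := CfsgLib.Linear.card_PSL_mul (F := F) hF 3 (by norm_num)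
  norm_num [Fin.prod_univ_three] at h
  omega

theorem card_sylow_two {T : Type u} [Group T] [Finite T] {a b : ℕ} (hb : Odd b) (h : Nat.card T = 2 ^ a * b)
    (P : Sylow 2 T) : Nat.card (P : Subgroup T) = 2 ^ a := by
  haveI : Fact (Nat.Prime 2) := ⟨Nat.prime_two⟩
  rw [P.card_eq_multiplicity, h, Nat.factorization_mul (by positivity) hb.pos.ne',
    Finsupp.add_apply, Nat.prime_two.factorization_pow, Finsupp.single_eq_same,
    Nat.factorization_eq_zero_of_not_dvd fun e => Nat.not_even_iff_odd.2 hb (even_iff_two_dvd.2 e), add_zero]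

/-- The parameters of `ZData` for `PSL(2,2^n)` and `Sz(q)`. -/
theorem zdata_params {T : Type u} [Group T] [Finite T] [IsSimpleGroup T] {K S D : Subgroup T} {w : T}
    (Z : ZData K S D w) :
    (∃ (F : Type) (_ : Field F) (_ : Fintype F) (n : ℕ), 2 ≤ n ∧ Fintype.card F = 2 ^ n ∧
        Nat.card T = 2 ^ n * ((2 ^ n) ^ 2 - 1) ∧ Nat.card D + 1 = 2 ^ n ∧
        Nonempty (T ≃* Matrix.ProjectiveSpecialLinearGroup (Fin 2) F)) ∨
      ∃ (F : Type) (_ : Field F) (_ : Fintype F) (k : ℕ), 1 ≤ k ∧ Fintype.card F = 2 ^ (2 * k + 1) ∧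
        Nat.card T = (2 ^ (2 * k + 1)) ^ 2 * ((2 ^ (2 * k + 1)) ^ 2 + 1) * (2 ^ (2 * k + 1) - 1) ∧
        Nat.card D + 1 = 2 ^ (2 * k + 1) ∧ Nonempty (T ≃* Cfsg.Lie.Sz F (2 ^ (k + 1))) := by
  haveI : Fact (Nat.Prime 2) := ⟨Nat.prime_two⟩
  obtain ⟨a, ha⟩ := Z.two.exists_card_eq
  have ha1 : 1 ≤ a := by
    by_contra hc
    obtain ⟨s, hsK, hs⟩ := CfsgLib.StrongEmbed.exists_invol Z.strong
    have hS : S = ⊥ := card_eq_one.1 (by rw [ha, show a = 0 by omega, pow_zero])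
    have := (Z.central s hsK hs).1
    rw [hS, mem_bot] at this
    exact CfsgLib.Invol.ne_one hs this
  have hcard := zd_card Z
  rw [ha, mul_assoc] at hcard
  have hodd : Odd (Nat.card D * (2 ^ a + 1)) :=
    Z.D_odd.mul ((Nat.even_pow.2 ⟨even_two, by omega⟩).add_one)
  rcases Z.psl_or_isoSuzuki with ⟨F, i1, i2, ⟨n, hn, hF⟩, e⟩ | ⟨F, i1, i2, k, hk, hF, e⟩
  · refine Or.inl ⟨F, i1, i2, n, hn, hF, ?_, ?_, e⟩
    · rw [Nat.card_congr e.some.toEquiv, card_psl_two_pow (by omega) hF]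
    · have hc : Nat.card T = 2 ^ n * ((2 ^ n) ^ 2 - 1) := by
        rw [Nat.card_congr e.some.toEquiv, card_psl_two_pow (by omega) hF]
      rw [hcard] at hc
      have hq : 2 ^ a = 2 ^ n := eq_pow_of_two_pow_mul hodd (by
        refine Nat.Even.sub_odd (Nat.one_le_pow _ _ (by positivity)) ?_ odd_one
        exact (Nat.even_pow.2 ⟨Nat.even_pow.2 ⟨even_two, by omega⟩, two_ne_zero⟩)) hc
      rw [hq] at hc
      have h1 := Nat.eq_of_mul_eq_mul_left (by positivity) hc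
      have e2 := Nat.sq_sub_sq (2 ^ n) 1
      rw [one_pow] at e2
      rw [e2, mul_comm] at h1
      have h2 := Nat.eq_of_mul_eq_mul_left (by positivity) h1
      have : 1 ≤ 2 ^ n := Nat.one_le_two_pow
      omega
  · refine Or.inr ⟨F, i1, i2, k, hk, hF, ?_, ?_, e⟩
    · rw [Nat.card_congr e.some.toEquiv, card_lieSz hk hF]
    · have hc : Nat.card T = (2 ^ (2 * k + 1)) ^ 2 * ((2 ^ (2 * k + 1)) ^ 2 + 1) * (2 ^ (2 * k + 1) - 1) := by
        rw [Nat.card_congr e.some.toEquiv, card_lieSz hk hF]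
      set q := 2 ^ (2 * k + 1) with hqdef
      rw [hcard, mul_assoc] at hc
      have hqev : Even q := Nat.even_pow.2 ⟨even_two, by omega⟩
      have hq1 : 1 ≤ q := Nat.one_le_two_pow
      have hq : 2 ^ a = q ^ 2 := by
        rw [hqdef, ← pow_mul]
        refine eq_pow_of_two_pow_mul hodd ?_ (by rw [pow_mul, ← hqdef]; exact hc)
        exact ((Nat.even_pow.2 ⟨hqev, two_ne_zero⟩).add_one).mul (Nat.Even.sub_odd hq1 hqev odd_one)
      rw [hq] at hc
      have h1 := Nat.eq_of_mul_eq_mul_left (by positivity) hc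
      rw [mul_comm] at h1
      have h2 := Nat.eq_of_mul_eq_mul_left (by positivity) h1
      omega

variable (hcl : ∀ (T : Type u) [Group T] [Finite T], IsSimpleGroup T → IsCIT T → ¬ Group.IsSolvable T →
  Listed T)

include hcl in
/-- A group with the prime graph of `Sz(q)`. -/
theorem sz_main {F : Type v} [Field F] [Fintype F] (m : ℕ) (hm : 1 ≤ m)
    (hF : Fintype.card F = 2 ^ (2 * m + 1)) {G : Type u} [Group G] [Finite G] [(Cfsg.pCore 2 G).Normal]
    (h : SameGraph (Cfsg.Lie.Sz F (2 ^ (m + 1))) G) :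
    Nonempty (G ⧸ Cfsg.pCore 2 G ≃* Cfsg.Lie.Sz F (2 ^ (m + 1))) := by
  haveI : Fact (Nat.Prime 2) := ⟨Nat.prime_two⟩
  have hL := isCIT_lieSz hm hF
  set n := 2 * m + 1 with hn
  have hcL := card_lieSz hm hF
  rw [← hn] at hcL
  obtain ⟨r0, hr0, hord⟩ := CfsgLib.Primitive2.exists_primitive (k := 4 * n) (by omega) (by omega)
  have hr02 : r0 ≠ 2 := odd_of_prim hr0 (by omega) ((hord (4 * n)).2 dvd_rfl)
  have hr0q : r0 ∣ (2 ^ n) ^ 2 + 1 := by
    rw [two_pow_sq]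
    refine (dvd_plus_or_minus hr0 (by rw [show 2 * (2 * n) = 4 * n by ring]; exact (hord _).2 dvd_rfl)).resolve_right
      fun h => ?_
    have := Nat.le_of_dvd (by omega) ((hord _).1 h)
    omega
  obtain ⟨s, hs, hsq⟩ := Nat.exists_prime_and_dvd (n := 2 ^ n - 1) (by
    have : 2 ^ 2 ≤ 2 ^ n := Nat.pow_le_pow_right two_pos (by omega)
    omega)
  have hs2 : s ≠ 2 := odd_of_prim hs (by omega) hsq
  have hsr : s ≠ r0 := fun e => by
    have := Nat.le_of_dvd (by omega) ((hord n).1 (e ▸ hsq))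
    omega
  have h2L : 2 ∣ Nat.card (Cfsg.Lie.Sz F (2 ^ (m + 1))) := by
    rw [hcL]
    exact dvd_mul_of_dvd_left (dvd_mul_of_dvd_left (dvd_pow (dvd_pow_self 2 (by omega)) two_ne_zero) _) _
  have hr0L : r0 ∣ Nat.card (Cfsg.Lie.Sz F (2 ^ (m + 1))) := by
    rw [hcL]; exact dvd_mul_of_dvd_left (dvd_mul_of_dvd_right hr0q _) _
  have hsL : s ∣ Nat.card (Cfsg.Lie.Sz F (2 ^ (m + 1))) := by
    rw [hcL]; exact dvd_mul_of_dvd_right hsq _
  have hns := h.not_solvable hL hs hr0 hs2 hr02 hsr h2L hsL hr0L (lieSz_not_adj hm hF hs hr0 hs2 hr02 hsq hr0q)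
  obtain ⟨hY, hprimes, -, N, hNn, hN, hlist⟩ := h.exists_socle hL hns hcl
  haveI := hN
  have h3 : ¬ 3 ∣ Nat.card N := fun e => by
    have := (hprimes 3 Nat.prime_three (by norm_num)).1 (e.trans (card_subgroup_dvd_card N))
    rw [hcL] at this
    exact not_three_dvd_sz m this
  rcases hlist with ⟨K, S, D, w, Z⟩ | ⟨F', i1, i2, hcase, ⟨e⟩⟩ | ⟨F', i1, i2, hcase, ⟨e⟩⟩
  · rcases zdata_params Z with ⟨F', i1, i2, k, hk, -, hcN, -, -⟩ | ⟨F', i1, i2, k, hk, hF', hcN, hD, ⟨e⟩⟩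
    · refine absurd ?_ h3
      rw [hcN, prime_dvd_psl_two_pow Nat.prime_three (by norm_num)]
      exact (show 3 ∣ 2 ^ 2 - 1 by norm_num).trans (Nat.pow_sub_one_dvd_pow_sub_one 2 (dvd_mul_right 2 k))
    · have hNtop : N = ⊤ := eq_top_of_zdata hY Z (by
        have : 2 ^ 3 ≤ 2 ^ (2 * k + 1) := Nat.pow_le_pow_right two_pos (by omega)
        omega)
      have hodd : ∀ r : ℕ, r.Prime → r ≠ 2 →
          (r ∣ Nat.card N ↔ r ∣ Nat.card (Cfsg.Lie.Sz F (2 ^ (m + 1)))) := fun r hr hr2 => by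
        rw [← hprimes r hr hr2, hNtop, Nat.card_congr Subgroup.topEquiv.toEquiv]
      have hkm : 4 * n ∣ 4 * (2 * k + 1) := (hord _).1 (prime_dvd_sz hr0 hr02 (hcN ▸ (hodd r0 hr0 hr02).2 hr0L))
      have hmk : 4 * (2 * k + 1) ∣ 4 * n := by
        obtain ⟨r1, hr1, hord1⟩ :=
          CfsgLib.Primitive2.exists_primitive (k := 4 * (2 * k + 1)) (by omega) (by omega)
        have hr12 : r1 ≠ 2 := odd_of_prim hr1 (by omega) ((hord1 _).2 dvd_rfl)
        have hr1q : r1 ∣ (2 ^ (2 * k + 1)) ^ 2 + 1 := by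
          rw [two_pow_sq]
          refine (dvd_plus_or_minus hr1 (by
            rw [show 2 * (2 * (2 * k + 1)) = 4 * (2 * k + 1) by ring]; exact (hord1 _).2 dvd_rfl)).resolve_right
            fun h => ?_
          have := Nat.le_of_dvd (by omega) ((hord1 _).1 h)
          omega
        refine (hord1 _).1 (prime_dvd_sz hr1 hr12 ?_)
        rw [← hn, ← hcL]
        exact (hodd r1 hr1 hr12).1 (hcN ▸ dvd_mul_of_dvd_left (dvd_mul_of_dvd_right hr1q _) _)
      have hkeq : k = m := by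
        have := Nat.dvd_antisymm hkm hmk
        omega
      subst hkeq
      obtain ⟨f⟩ := lieSz_congr (FiniteField.ringEquivOfCardEq (K := F') (K' := F) (hF'.trans hF.symm)) (2 ^ (k + 1))
      exact ⟨((MulEquiv.subgroupCongr hNtop).trans Subgroup.topEquiv).symm.trans (e.trans f)⟩
  · refine absurd ?_ h3
    rw [Nat.card_congr e.toEquiv]
    have hodd : Odd (Fintype.card F') := by
      rcases hcase with h9 | ⟨hp, h5, -⟩
      · rw [h9]; decide
      · exact hp.odd_of_ne_two (by omega)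
    have h2 := card_psl_odd hodd
    rcases hcase with h9 | ⟨hp, h5, -⟩
    · rw [h9] at h2; omega
    · have hp3 : Fintype.card F' % 3 ≠ 0 := fun e3 => by
        have := (Nat.prime_dvd_prime_iff_eq Nat.prime_three hp).1 (Nat.dvd_of_mod_eq_zero e3)
        omega
      have h31 : 3 ∣ Fintype.card F' ^ 2 - 1 := by
        have : Fintype.card F' ^ 2 % 3 = 1 := by
          rw [Nat.pow_mod]
          rcases (show Fintype.card F' % 3 = 1 ∨ Fintype.card F' % 3 = 2 by omega) with e3 | e3 <;> rw [e3]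
        omega
      exact ((Nat.coprime_primes Nat.prime_three Nat.prime_two).2 (by norm_num)).dvd_of_dvd_mul_left
        (h2 ▸ dvd_mul_of_dvd_right h31 _)
  · refine absurd ?_ h3
    rw [Nat.card_congr e.toEquiv, card_psl_three_four hcase]
    norm_num

include hcl in
/-- A group with the prime graph of `PSL(2,2^m)`. -/
theorem psl_main {F : Type v} [Field F] [Fintype F] (m : ℕ) (hm : 4 ≤ m) (hF : Fintype.card F = 2 ^ m)
    {G : Type u} [Group G] [Finite G] [(Cfsg.pCore 2 G).Normal]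
    (h : SameGraph (Matrix.ProjectiveSpecialLinearGroup (Fin 2) F) G) :
    Nonempty (G ⧸ Cfsg.pCore 2 G ≃* Matrix.ProjectiveSpecialLinearGroup (Fin 2) F) := by
  haveI : Fact (Nat.Prime 2) := ⟨Nat.prime_two⟩
  have hL := isCIT_psl (by omega : 1 ≤ m) hF
  have hcL := card_psl_two_pow (by omega : 1 ≤ m) hF
  have hdvdL : ∀ r : ℕ, r ∣ 2 ^ (2 * m) - 1 → r ∣ Nat.card (Matrix.ProjectiveSpecialLinearGroup (Fin 2) F) :=
    fun r hr => by rw [hcL, two_pow_sq]; exact dvd_mul_of_dvd_right hr _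
  have hminus : ∀ r : ℕ, r ∣ 2 ^ m - 1 → r ∣ 2 ^ (2 * m) - 1 := fun r hr =>
    hr.trans (Nat.pow_sub_one_dvd_pow_sub_one 2 (dvd_mul_left m 2))
  obtain ⟨r0, hr0, hord⟩ := CfsgLib.Primitive2.exists_primitive (k := 2 * m) (by omega) (by omega)
  have hr02 : r0 ≠ 2 := odd_of_prim hr0 (by omega) ((hord _).2 dvd_rfl)
  have hr0q : r0 ∣ 2 ^ m + 1 := (dvd_plus_or_minus hr0 ((hord _).2 dvd_rfl)).resolve_right fun h => by
    have := Nat.le_of_dvd (by omega) ((hord _).1 h)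
    omega
  obtain ⟨s0, o, hs0, ho3, hom, hom', hord'⟩ : ∃ s o : ℕ, s.Prime ∧ 3 ≤ o ∧ o ∣ m ∧ (o = m ∨ m = 6) ∧
      ∀ j, s ∣ 2 ^ j - 1 ↔ o ∣ j := by
    by_cases h6 : m = 6
    · obtain ⟨s, hs, hs'⟩ := CfsgLib.Primitive2.exists_primitive (k := 3) (by omega) (by omega)
      exact ⟨s, 3, hs, le_rfl, h6 ▸ (by norm_num), Or.inr h6, hs'⟩
    · obtain ⟨s, hs, hs'⟩ := CfsgLib.Primitive2.exists_primitive (k := m) (by omega) h6
      exact ⟨s, m, hs, by omega, dvd_rfl, Or.inl rfl, hs'⟩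
  have hs0q : s0 ∣ 2 ^ m - 1 := (hord' _).2 hom
  have hs02 : s0 ≠ 2 := odd_of_prim hs0 (by omega) ((hord' o).2 dvd_rfl)
  have hsr : s0 ≠ r0 := fun e => by
    have := Nat.le_of_dvd (by omega) ((hord m).1 (e ▸ hs0q))
    omega
  have hns := h.not_solvable hL hs0 hr0 hs02 hr02 hsr
    (by rw [hcL]; exact dvd_mul_of_dvd_left (dvd_pow_self 2 (by omega)) _)
    (hdvdL _ (hminus _ hs0q)) (hdvdL _ ((hord _).2 dvd_rfl))
    (psl_not_adj (by omega) hF hs0 hr0 hs02 hr02 hs0q hr0q)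
  obtain ⟨hY, hprimes, hadj, N, hNn, hN, hlist⟩ := h.exists_socle hL hns hcl
  haveI := hN
  have hr0Y := (hprimes r0 hr0 hr02).2 (hdvdL _ ((hord _).2 dvd_rfl))
  have hs0Y := (hprimes s0 hs0 hs02).2 (hdvdL _ (hminus _ hs0q))
  have hbig : r0 ≠ 3 ∧ r0 ≠ 5 ∧ r0 ≠ 7 := by
    refine ⟨?_, ?_, ?_⟩ <;> intro e <;> subst e
    · have := Nat.le_of_dvd (by norm_num) ((hord 2).1 (by norm_num)); omega
    · have := Nat.le_of_dvd (by norm_num) ((hord 4).1 (by norm_num)); omega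
    · have := Nat.le_of_dvd (by norm_num) ((hord 3).1 (by norm_num)); omega
  obtain ⟨hb3, hb5, hb7⟩ := hbig
  -- a listed group of order `2^a * b` with small prime divisors is impossible
  have hsmallgrp : ∀ a b : ℕ, Nat.card N = 2 ^ a * b → Odd b → b ∣ 315 ^ 2 →
      2 ^ a - 1 ∣ 63 → False := by
    intro a b hc hb hb' ha
    have hsm : ∀ c : ℕ, c ∣ 315 ^ 2 → ¬ r0 ∣ c := fun c hc hrc => by
      have h1 : r0 ∣ 3 * 3 * (5 * 7) := hr0.dvd_of_dvd_pow (n := 2) (hrc.trans (hc.trans (by norm_num)))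
      rcases hr0.dvd_mul.1 h1 with h | h <;> rcases hr0.dvd_mul.1 h with h | h
      · exact hb3 ((Nat.prime_dvd_prime_iff_eq hr0 Nat.prime_three).1 h)
      · exact hb3 ((Nat.prime_dvd_prime_iff_eq hr0 Nat.prime_three).1 h)
      · exact hb5 ((Nat.prime_dvd_prime_iff_eq hr0 Nat.prime_five).1 h)
      · exact hb7 ((Nat.prime_dvd_prime_iff_eq hr0 (by norm_num)).1 h)
    have hrN : ¬ r0 ∣ Nat.card N := fun e => by
      rcases hr0.dvd_mul.1 (hc ▸ e) with h | h
      · exact hr02 ((Nat.prime_dvd_prime_iff_eq hr0 Nat.prime_two).1 (hr0.dvd_of_dvd_pow h))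
      · exact hsm b hb' h
    obtain ⟨P⟩ := (inferInstance : Nonempty (Sylow 2 N))
    have h1 := extra_prime_two hY N hr0 hr02 hr0Y hrN P
    rw [card_sylow_two hb hc P] at h1
    exact hsm _ (ha.trans (by norm_num)) h1
  rcases hlist with ⟨K, S, D, w, Z⟩ | ⟨F', i1, i2, hcase, ⟨e⟩⟩ | ⟨F', i1, i2, hcase, ⟨e⟩⟩
  · have hodd : ∀ r : ℕ, r.Prime → r ≠ 2 →
        (r ∣ Nat.card N ↔ r ∣ Nat.card (Matrix.ProjectiveSpecialLinearGroup (Fin 2) F)) := fun r hr hr2 => by
      rw [← hprimes r hr hr2]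
      refine ⟨fun e => e.trans (card_subgroup_dvd_card N), fun e => ?_⟩
      rw [card_eq_card_quotient_mul_card_subgroup N] at e
      refine (hr.dvd_mul.1 e).resolve_left fun e' => hr2 ?_
      obtain ⟨j, hj⟩ := (isPGroup_quotient hY Z).exists_card_eq
      exact (Nat.prime_dvd_prime_iff_eq hr Nat.prime_two).1 (hr.dvd_of_dvd_pow (hj ▸ e'))
    rcases zdata_params Z with ⟨F', i1, i2, k, hk, hF', hcN, hD, ⟨e⟩⟩ | ⟨F', i1, i2, k, hk, -, hcN, -, -⟩
    · have hmk : 2 * m ∣ 2 * k := (hord _).1 ((prime_dvd_psl_two_pow hr0 hr02).1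
        (hcN ▸ (hodd r0 hr0 hr02).2 (hdvdL _ ((hord _).2 dvd_rfl))))
      have hle : m ≤ k := by have := Nat.le_of_dvd (by omega) hmk; omega
      obtain ⟨r1, hr1, hord1⟩ := CfsgLib.Primitive2.exists_primitive (k := 2 * k) (by omega) (by omega)
      have hr12 : r1 ≠ 2 := odd_of_prim hr1 (by omega) ((hord1 _).2 dvd_rfl)
      have hkm : 2 * k ∣ 2 * m := (hord1 _).1 ((prime_dvd_psl_two_pow hr1 hr12).1 (hcL ▸
        (hodd r1 hr1 hr12).1 (by
          rw [hcN]; exact (prime_dvd_psl_two_pow hr1 hr12).2 ((hord1 _).2 dvd_rfl))))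
      have hkeq : k = m := by
        have := Nat.dvd_antisymm hkm hmk
        omega
      subst hkeq
      have hNtop : N = ⊤ := eq_top_of_zdata hY Z (by
        have : 2 ^ 4 ≤ 2 ^ k := Nat.pow_le_pow_right two_pos hm
        omega)
      obtain ⟨f⟩ := CfsgLib.InvChar.psl_congr
        (FiniteField.ringEquivOfCardEq (K := F') (K' := F) (hF'.trans hF.symm))
      exact ⟨((MulEquiv.subgroupCongr hNtop).trans Subgroup.topEquiv).symm.trans (e.trans f)⟩
    · refine absurd ?_ (hcN ▸ not_three_dvd_sz k : ¬ 3 ∣ Nat.card N)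
      exact (hodd 3 Nat.prime_three (by norm_num)).2 (hdvdL 3
        ((show 3 ∣ 2 ^ 2 - 1 by norm_num).trans (Nat.pow_sub_one_dvd_pow_sub_one 2 (dvd_mul_right 2 m))))
  · have hodd : Odd (Fintype.card F') := by
      rcases hcase with h9 | ⟨hp, h5, -⟩
      · rw [h9]; decide
      · exact hp.odd_of_ne_two (by omega)
    have h2 := card_psl_odd hodd
    rw [← Nat.card_congr e.toEquiv] at h2
    rcases hcase with h9 | ⟨hp, h5, k, hk⟩
    · refine (hsmallgrp 3 45 ?_ (by decide) (by norm_num) (by norm_num)).elim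
      rw [h9] at h2
      omega
    set p := Fintype.card F' with hpdef
    have hp2 : p ≠ 2 := by omega
    have hev : Even (p ^ 2 - 1) := Nat.Odd.sub_odd (hodd.pow) odd_one
    obtain ⟨c, hc⟩ := hev
    have hcN : Nat.card N = p * c := by
      rw [hc, ← two_mul, mul_left_comm] at h2
      exact Nat.eq_of_mul_eq_mul_left two_pos h2
    have hNdvd : Nat.card N ∣ p * (p ^ 2 - 1) := ⟨2, by rw [hcN, hc]; ring⟩
    have hpY : p ∣ Nat.card (G ⧸ Cfsg.pCore 2 G) :=
      (hcN ▸ dvd_mul_right p c : p ∣ Nat.card N).trans (card_subgroup_dvd_card N)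
    have hpL : p ∣ 2 ^ (2 * m) - 1 :=
      (prime_dvd_psl_two_pow hp hp2).1 (hcL ▸ (hprimes p hp hp2).1 hpY)
    obtain ⟨P⟩ := (inferInstance : Nonempty (Sylow p N))
    haveI := Fact.mk hp
    have hP : Nat.card (P : Subgroup N) = p := by
      have hnd : ¬ p ∣ c := fun hd => by
        have h1 : p ∣ p ^ 2 - 1 := by rw [hc]; exact dvd_add hd hd
        have h3 := Nat.dvd_sub (dvd_pow_self p two_ne_zero) h1
        have : 1 ≤ p ^ 2 := Nat.one_le_pow _ _ hp.pos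
        rw [show p ^ 2 - (p ^ 2 - 1) = 1 by omega] at h3
        exact hp.ne_one (Nat.dvd_one.1 h3)
      rw [P.card_eq_multiplicity, hcN, Nat.factorization_mul hp.pos.ne' (show c ≠ 0 by rintro rfl; exact hnd (dvd_zero p)),
        Finsupp.add_apply, hp.factorization_self, Nat.factorization_eq_zero_of_not_dvd hnd, add_zero, pow_one]
    -- a prime of `L` not adjacent to `p` divides the order of `N`
    have hin : ∀ r : ℕ, r.Prime → r ≠ p → r ≠ 2 → r ∣ Nat.card (G ⧸ Cfsg.pCore 2 G) →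
        (¬ ∃ x : Matrix.ProjectiveSpecialLinearGroup (Fin 2) F, orderOf x = r * p) →
        r ∣ p * (p ^ 2 - 1) := by
      intro r hr hrp hr2 hrY hno
      by_cases hrN : r ∣ Nat.card N
      · exact hrN.trans hNdvd
      rcases extra_prime_cyclic N hp hr (Ne.symm hrp) hrY hrN P hP with h1 | h1
      · refine dvd_mul_of_dvd_right (h1.trans ?_) _
        have e2 := Nat.sq_sub_sq p 1
        rw [one_pow] at e2
        exact e2 ▸ dvd_mul_left _ _
      · exact absurd h1 (hadj r p hr hp hrp hno)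
    exfalso
    refine fermat_mersenne_false hm hp h5 hk hpL ⟨fun hpm => ?_, fun hpp => ?_⟩
    · have hne : r0 ≠ p := fun e0 => by
        have := Nat.le_of_dvd (by omega) ((hord m).1 (e0 ▸ hpm))
        omega
      refine ⟨r0, hr0, hne, hin r0 hr0 hne hr02 hr0Y ?_, hord⟩
      rw [mul_comm]
      exact psl_not_adj (by omega) hF hp hr0 hp2 hr02 hpm hr0q
    · have hne : s0 ≠ p := fun e0 => by
        have h1 := Nat.dvd_sub hpp (e0 ▸ hs0q)
        have : 1 ≤ 2 ^ m := Nat.one_le_two_pow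
        rw [show 2 ^ m + 1 - (2 ^ m - 1) = 2 by omega] at h1
        exact hp2 ((Nat.prime_dvd_prime_iff_eq hp Nat.prime_two).1 h1)
      exact ⟨s0, o, hs0, hne, ho3, hom, hom', hin s0 hs0 hne hs02 hs0Y
        (psl_not_adj (by omega) hF hs0 hp hs02 hp2 hs0q hpp), hord'⟩
  · refine (hsmallgrp 6 315 ?_ (by decide) (by norm_num) (by norm_num)).elim
    rw [Nat.card_congr e.toEquiv, card_psl_three_four hcase]
    norm_num

end CfsgLib.CITGraph
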