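import Cfsg.Agent.CITGraph.Basic

/-!
A CIT group with a normal subgroup carrying strongly embedded data is equal to it, up to `q = 4`.
-/

set_option autoImplicit false
set_option linter.style.haveILetI false
set_option linter.unusedSectionVars false

namespace CfsgLib.CITGraph

open Subgroup CfsgLib.CIT

universe u

section data

variable {G : Type u} [Group G] [Finite G] {K T D : Subgroup G} {v : G}

theorem zd_T_le (Z : ZData K T D v) : T ≤ K := Z.K_eq ▸ le_normalizer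

theorem zd_D_le (Z : ZData K T D v) : D ≤ K := Z.D_eq ▸ inf_le_left

theorem zd_T_normal (Z : ZData K T D v) {x t : G} (hx : x ∈ K) (ht : t ∈ T) : x * t * x⁻¹ ∈ T :=
  (mem_normalizer_iff.1 (Z.K_eq ▸ hx) t).1 ht

theorem zd_inf (Z : ZData K T D v) {x : G} (hT : x ∈ T) (hD : x ∈ D) : x = 1 :=
  eq_one_of_mem_inf Z.two Z.D_odd hT hD

theorem zd_card_K (Z : ZData K T D v) : Nat.card K = Nat.card T * Nat.card D := by
  rw [← Nat.card_prod]
  refine (Nat.card_congr (Equiv.ofBijective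
    (fun p : T × D => (⟨(p.1 : G) * p.2, K.mul_mem (zd_T_le Z p.1.2) (zd_D_le Z p.2.2)⟩ : K)) ⟨?_, ?_⟩)).symm
  · rintro ⟨t, d⟩ ⟨t', d'⟩ e
    have e' : (t : G) * d = t' * d' := congrArg Subtype.val e
    have h1 : (t' : G)⁻¹ * t = d' * (d : G)⁻¹ := by
      rw [eq_mul_inv_iff_mul_eq, mul_assoc, e', inv_mul_cancel_left]
    have h2 := zd_inf Z (T.mul_mem (T.inv_mem t'.2) t.2) (h1 ▸ D.mul_mem d'.2 (D.inv_mem d.2))
    refine Prod.ext (Subtype.ext (inv_mul_eq_one.1 h2).symm) (Subtype.ext ?_)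
    rw [h2] at h1
    exact (mul_inv_eq_one.1 h1.symm).symm
  · rintro ⟨k, hk⟩
    obtain ⟨t, ht, d, hd, rfl⟩ := Z.decomp k hk
    exact ⟨(⟨t, ht⟩, ⟨d, hd⟩), rfl⟩

theorem zd_card (Z : ZData K T D v) : Nat.card G = Nat.card T * Nat.card D * (Nat.card T + 1) := by
  rw [← K.card_mul_index, zd_card_K Z, Z.card_index]

/-- An element of `T` normalising `D` is trivial. -/
theorem zd_eq_one_of_norm (Z : ZData K T D v) {t d : G} (ht : t ∈ T) (hd : d ∈ D) (hd1 : d ≠ 1)
    (hn : t * d * t⁻¹ ∈ D) : t = 1 := by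
  have h1 : t * (d * t⁻¹ * d⁻¹) ∈ T := T.mul_mem ht (zd_T_normal Z (zd_D_le Z hd) (T.inv_mem ht))
  have h2 : t * (d * t⁻¹ * d⁻¹) ∈ D := by
    rw [show t * (d * t⁻¹ * d⁻¹) = t * d * t⁻¹ * d⁻¹ by group]
    exact D.mul_mem hn (D.inv_mem hd)
  have h3 := zd_inf Z h1 h2
  rw [show t * (d * t⁻¹ * d⁻¹) = (t * d) * (d * t)⁻¹ by group, mul_inv_eq_one] at h3
  exact zd_inf Z ht (Z.cent_D d hd hd1 t h3)

/-- Outside `T` every element of `K` is `T`-conjugate to an element of `D`. -/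
theorem zd_cover (Z : ZData K T D v) {x : G} (hx : x ∈ K) (hxT : x ∉ T) :
    ∃ t ∈ T, ∃ d ∈ D, x = t * d * t⁻¹ := by
  classical
  let f : T × {d : D // d ≠ 1} → {k : K // (k : G) ∉ T} := fun p =>
    ⟨⟨(p.1 : G) * p.2.1 * (p.1 : G)⁻¹, K.mul_mem (K.mul_mem (zd_T_le Z p.1.2) (zd_D_le Z p.2.1.2))
      (K.inv_mem (zd_T_le Z p.1.2))⟩, fun h => p.2.2 (Subtype.ext (zd_inf Z (by
        have := T.mul_mem (T.mul_mem (T.inv_mem p.1.2) h) p.1.2
        simpa [mul_assoc] using this) p.2.1.2))⟩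
  have hf : Function.Injective f := by
    rintro ⟨t, d, hd⟩ ⟨t', d', hd'⟩ e
    have e' : (t : G) * d * (t : G)⁻¹ = t' * d' * (t' : G)⁻¹ :=
      congrArg (fun z : {k : K // (k : G) ∉ T} => ((z : K) : G)) e
    set s := (t' : G)⁻¹ * t with hs
    have e2 : s * d * s⁻¹ = d' := by
      rw [hs, show (t' : G)⁻¹ * t * d * ((t' : G)⁻¹ * t)⁻¹ = (t' : G)⁻¹ * (t * d * (t : G)⁻¹) * t' by group,
        e']
      group
    have hs1 := zd_eq_one_of_norm Z (T.mul_mem (T.inv_mem t'.2) t.2) d.2 (fun e => hd (Subtype.ext e))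
      (e2 ▸ d'.2)
    rw [← hs] at hs1
    rw [hs1] at e2
    refine Prod.ext (Subtype.ext (inv_mul_eq_one.1 hs1).symm) (Subtype.ext (Subtype.ext ?_))
    simpa using e2
  have hcard : Nat.card {k : K // (k : G) ∉ T} = Nat.card (T × {d : D // d ≠ 1}) := by
    haveI : Fintype D := Fintype.ofFinite _
    haveI : Fintype K := Fintype.ofFinite _
    haveI : Fintype (T.subgroupOf K) := Fintype.ofFinite _
    have h1 : Nat.card {d : D // d ≠ 1} = Nat.card D - 1 := by
      rw [Nat.card_eq_fintype_card (α := D), Nat.card_eq_fintype_card]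
      simp [Fintype.card_subtype_compl]
    have h2 : Nat.card {k : K // (k : G) ∉ T} = Nat.card K - Nat.card T := by
      rw [← Nat.card_congr (Subgroup.subgroupOfEquivOfLe (zd_T_le Z)).toEquiv]
      simp only [Nat.card_eq_fintype_card]
      rw [Fintype.card_subtype_compl]
      congr 1
      exact Fintype.card_congr (Equiv.subtypeEquivRight fun k => mem_subgroupOf.symm)
    rw [Nat.card_prod, h1, h2, zd_card_K Z, Nat.mul_sub, mul_one]
  obtain ⟨⟨t, d⟩, hp⟩ := ((Nat.bijective_iff_injective_and_card f).2 ⟨hf, hcard.symm⟩).2 ⟨⟨x, hx⟩, hxT⟩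
  exact ⟨t, t.2, d.1, d.1.2, (congrArg (fun z : {k : K // (k : G) ∉ T} => ((z : K) : G)) hp).symm⟩

/-- The involutions of `K` are in bijection with `D`. -/
theorem zd_card_invol (Z : ZData K T D v) :
    Nat.card {x : G // x ∈ K ∧ orderOf x = 2} = Nat.card D := by
  obtain ⟨s, hsK, hs⟩ := CfsgLib.StrongEmbed.exists_invol Z.strong
  refine (Nat.card_congr (Equiv.ofBijective (fun d : D => (⟨(d : G) * s * (d : G)⁻¹,
    K.mul_mem (K.mul_mem (zd_D_le Z d.2) hsK) (K.inv_mem (zd_D_le Z d.2)),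
    (CfsgLib.Invol.orderOf_conj_eq (d : G) s).trans hs⟩ : {x : G // x ∈ K ∧ orderOf x = 2})) ⟨?_, ?_⟩)).symm
  · intro d d' e
    have e' := congrArg Subtype.val e
    obtain ⟨c, -, hc⟩ := Z.regular s hsK hs _
      (K.mul_mem (K.mul_mem (zd_D_le Z d.2) hsK) (K.inv_mem (zd_D_le Z d.2)))
      ((CfsgLib.Invol.orderOf_conj_eq (d : G) s).trans hs)
    exact Subtype.ext ((hc _ ⟨d.2, rfl⟩).trans (hc _ ⟨d'.2, e'.symm⟩).symm)
  · rintro ⟨x, hxK, hx⟩
    obtain ⟨d, ⟨hd, he⟩, -⟩ := Z.regular s hsK hs x hxK hx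
    exact ⟨⟨d, hd⟩, Subtype.ext he⟩

/-- If an automorphism inverts `D` and fixes an involution of `K`, then `#D = 3`. -/
theorem zd_card_D_of_aut (Z : ZData K T D v) (σ : MulAut G) (hσ : ∀ d ∈ D, σ d = d⁻¹) {z : G}
    (hzK : z ∈ K) (hz : orderOf z = 2) (hσz : σ z = z) : Nat.card D = 3 := by
  have hzz : z * z = 1 := CfsgLib.Invol.mul_self_eq_one hz
  have hmem : ∀ d ∈ D, d * z * d⁻¹ ∈ K ∧ orderOf (d * z * d⁻¹) = 2 := fun d hd =>
    ⟨K.mul_mem (K.mul_mem (zd_D_le Z hd) hzK) (K.inv_mem (zd_D_le Z hd)),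
      (CfsgLib.Invol.orderOf_conj_eq d z).trans hz⟩
  have huniq : ∀ d ∈ D, ∀ e ∈ D, d * z * d⁻¹ = e * z * e⁻¹ → d = e := fun d hd e he hde => by
    obtain ⟨c, -, hc⟩ := Z.regular z hzK hz _ (hmem d hd).1 (hmem d hd).2
    exact (hc d ⟨hd, rfl⟩).trans (hc e ⟨he, hde.symm⟩).symm
  haveI := Z.D_cyclic
  have hcomm : ∀ d ∈ D, ∀ e ∈ D, d * e = e * d := fun d hd e he => by
    letI : CommGroup D := IsCyclic.commGroup
    exact congrArg Subtype.val (mul_comm (⟨d, hd⟩ : D) ⟨e, he⟩)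
  -- the defining relation
  have hrel : ∀ d ∈ D, d ≠ 1 → ∃ e ∈ D, e * e = d ∧ z * (d * z * d⁻¹) = e * z * e⁻¹ := by
    intro d hd hd1
    have hc : Commute z (d * z * d⁻¹) :=
      (Z.central _ (hmem d hd).1 (hmem d hd).2).2 z (Z.central z hzK hz).1 |>.symm
    have ho : orderOf (z * (d * z * d⁻¹)) = 2 := by
      refine orderOf_eq_prime ?_ fun e => hd1 (huniq d hd 1 D.one_mem ?_)
      · rw [hc.mul_pow, pow_two, pow_two, hzz, CfsgLib.Invol.mul_self_eq_one (hmem d hd).2, one_mul]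
      · rw [one_mul, inv_one, mul_one, ← inv_eq_of_mul_eq_one_right e, CfsgLib.Invol.inv_eq_self hz]
    obtain ⟨e, ⟨he, hee⟩, -⟩ := Z.regular z hzK hz _ (K.mul_mem hzK (hmem d hd).1) ho
    refine ⟨e, he, ?_, hee.symm⟩
    have h1 : z * (d⁻¹ * z * d) = e⁻¹ * z * e := by
      have := congrArg σ hee
      simp only [map_mul, map_inv, hσ d hd, hσ e he, hσz, inv_inv] at this
      exact this.symm
    have h2 : (d * e⁻¹) * z * (d * e⁻¹)⁻¹ = e * z * e⁻¹ := by
      rw [show d * e⁻¹ * z * (d * e⁻¹)⁻¹ = d * (e⁻¹ * z * e) * d⁻¹ by group, ← h1, hee,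
        show d * (z * (d⁻¹ * z * d)) * d⁻¹ = (d * z * d⁻¹) * z by group]
      exact hc.eq.symm
    have h3 : d * e⁻¹ = e := huniq _ (D.mul_mem hd (D.inv_mem he)) e he h2
    rw [mul_inv_eq_iff_eq_mul] at h3
    exact h3.symm
  have hsq : ∀ e ∈ D, e ≠ 1 → z * ((e * e) * z * (e * e)⁻¹) = e * z * e⁻¹ ∧ e * e ≠ 1 := by
    intro e he he1
    have hsq_inj : ∀ a ∈ D, ∀ b ∈ D, a * a = b * b → a = b := fun a ha b hb hab => by
      have h1 : Commute a b⁻¹ := Commute.inv_right (hcomm a ha b hb)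
      have h2 : (a * b⁻¹) ^ 2 = 1 := by
        rw [h1.mul_pow, pow_two, pow_two, hab]; group
      exact mul_inv_eq_one.1 (eq_one_of_odd_of_pow (k := 1)
        (Z.D_odd.of_dvd_nat (orderOf_dvd_natCard D (D.mul_mem ha (D.inv_mem hb)))) h2)
    have hne : e * e ≠ 1 := fun h => he1 (hsq_inj e he 1 D.one_mem (by rw [h, one_mul]))
    obtain ⟨e', he', hee', hre⟩ := hrel _ (D.mul_mem he he) hne
    exact ⟨(hsq_inj e' he' e he hee') ▸ hre, hne⟩
  obtain ⟨g, hg⟩ := IsCyclic.exists_generator (α := D)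
  have hg1 : (g : G) ≠ 1 := fun e => by
    have h1 : Nat.card D = orderOf g := (orderOf_eq_card_of_forall_mem_zpowers hg).symm
    rw [← orderOf_coe g, e, orderOf_one] at h1
    have := Z.three_le
    omega
  obtain ⟨h1, hne⟩ := hsq g g.2 hg1
  obtain ⟨h2, -⟩ := hsq _ (D.mul_mem g.2 g.2) hne
  rw [← h2, ← mul_assoc, hzz, one_mul] at h1
  have h4 := huniq _ (D.mul_mem (D.mul_mem g.2 g.2) (D.mul_mem g.2 g.2)) _ g.2 h1
  have h5 : (g : G) ^ 3 = 1 := by
    rw [← mul_assoc] at h4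
    rw [pow_succ, pow_two]
    exact mul_eq_right.1 h4
  have h6 : Nat.card D ∣ 3 := by
    rw [← orderOf_eq_card_of_forall_mem_zpowers hg, ← orderOf_coe g]
    exact orderOf_dvd_of_pow_eq_one h5
  have := Z.three_le
  rcases (Nat.dvd_prime Nat.prime_three).1 h6 with e | e <;> omega

end data

variable {Y : Type u} [Group Y] [Finite Y] {N : Subgroup Y} [N.Normal] {K T D : Subgroup N} {v : N}

theorem mem_normalizer_map_iff (Z : ZData K T D v) (x : N) :
    (x : Y) ∈ normalizer ((T.map N.subtype : Subgroup Y) : Set Y) ↔ x ∈ K := by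
  rw [Z.K_eq, mem_normalizer_iff, mem_normalizer_iff]
  constructor
  · intro hh y
    exact ((mem_map_iff_mem (K := T) N.subtype_injective).symm.trans (hh y)).trans
      (mem_map_iff_mem (K := T) (x := x * y * x⁻¹) N.subtype_injective)
  · intro hh y
    constructor
    · rintro ⟨y', hy', rfl⟩
      exact ⟨_, (hh y').1 hy', rfl⟩
    · rintro ⟨y', hy', e⟩
      refine ⟨x⁻¹ * y' * x, (hh _).2 (by simpa [mul_assoc] using hy'), ?_⟩
      show (x : Y)⁻¹ * (y' : Y) * x = y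
      rw [show (y' : Y) = x * y * (x : Y)⁻¹ from e]
      group

theorem conjNormal_mem_K (Z : ZData K T D v) {a : Y}
    (ha : a ∈ normalizer ((T.map N.subtype : Subgroup Y) : Set Y)) {x : N} (hx : x ∈ K) :
    (MulAut.conjNormal a : MulAut N) x ∈ K := by
  rw [← mem_normalizer_map_iff Z, MulAut.conjNormal_apply]
  exact mul_mem (mul_mem ha ((mem_normalizer_map_iff Z x).2 hx)) (inv_mem ha)

theorem exists_normalizer_mul (Z : ZData K T D v) (g : Y) :
    ∃ a ∈ normalizer ((T.map N.subtype : Subgroup Y) : Set Y), ∃ n ∈ N, g = a * n := by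
  haveI : Fact (Nat.Prime 2) := ⟨Nat.prime_two⟩
  let S : Sylow 2 N := ⟨T, Z.two, fun {Q} hQ hTQ => Z.sylow Q hQ hTQ⟩
  have h : g ∈ normalizer ((T.map N.subtype : Subgroup Y) : Set Y) ⊔ N :=
    (Sylow.normalizer_sup_eq_top S).symm ▸ mem_top g
  obtain ⟨a, ha, n, hn, rfl⟩ := mem_sup_of_normal_right.1 h
  exact ⟨a, ha, n, hn, rfl⟩

/-- The quotient by the simple normal subgroup is a 2-group. -/
theorem isPGroup_quotient (h : IsCIT Y) (Z : ZData K T D v) : IsPGroup 2 (Y ⧸ N) := by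
  haveI : Fact (Nat.Prime 2) := ⟨Nat.prime_two⟩
  set H := normalizer ((T.map N.subtype : Subgroup Y) : Set Y) with hH
  rw [IsPGroup.iff_card]
  refine ⟨_, Nat.eq_prime_pow_of_unique_prime_dvd Nat.card_pos.ne' fun {r} hr hrd => ?_⟩
  by_contra hr2
  haveI := Fact.mk hr
  have hcardH : Nat.card H = Nat.card (Y ⧸ N) * Nat.card K := by
    have hsurj : Function.Surjective ((QuotientGroup.mk' N).comp H.subtype) := by
      intro q
      obtain ⟨g, rfl⟩ := QuotientGroup.mk_surjective q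
      obtain ⟨a, ha, n, hn, rfl⟩ := exists_normalizer_mul Z g
      exact ⟨⟨a, ha⟩, QuotientGroup.eq.2 (by simpa using hn)⟩
    rw [card_eq_card_quotient_mul_card_subgroup ((QuotientGroup.mk' N).comp H.subtype).ker,
      Nat.card_congr (QuotientGroup.quotientKerEquivOfSurjective _ hsurj).toEquiv]
    congr 1
    refine Nat.card_congr
      { toFun := fun x => ⟨⟨((x : H) : Y), by
          have := x.2; rwa [MonoidHom.mem_ker, MonoidHom.comp_apply, QuotientGroup.mk'_apply,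
            QuotientGroup.eq_one_iff] at this⟩, (mem_normalizer_map_iff Z _).1 (x : H).2⟩
        invFun := fun k => ⟨⟨((k : N) : Y), (mem_normalizer_map_iff Z _).2 k.2⟩, by
          rw [MonoidHom.mem_ker, MonoidHom.comp_apply, QuotientGroup.mk'_apply, QuotientGroup.eq_one_iff]
          exact (k : N).2⟩
        left_inv := fun x => rfl
        right_inv := fun k => rfl }
  set b := (Nat.card D).factorization r
  have hdvd : r ^ (b + 1) ∣ Nat.card H := by
    rw [hcardH, zd_card_K Z, pow_succ']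
    exact mul_dvd_mul hrd (dvd_mul_of_dvd_right (Nat.ordProj_dvd _ _) _)
  obtain ⟨R, hR⟩ := Sylow.exists_subgroup_card_pow_prime r hdvd
  letI : MulAction R {x : N // x ∈ K ∧ orderOf x = 2} :=
    { smul := fun a x => ⟨(MulAut.conjNormal ((a : H) : Y) : MulAut N) x.1,
        conjNormal_mem_K Z (a : H).2 x.2.1, (MulEquiv.orderOf_eq _ _).trans x.2.2⟩
      one_smul := fun x => Subtype.ext (by
        show (MulAut.conjNormal (((1 : R) : H) : Y) : MulAut N) x.1 = x.1
        simp)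
      mul_smul := fun a c x => Subtype.ext (by
        show (MulAut.conjNormal (((a * c : R) : H) : Y) : MulAut N) x.1 = _
        simp [map_mul]
        rfl) }
  have hfree : ∀ x : {x : N // x ∈ K ∧ orderOf x = 2}, MulAction.stabilizer R x = ⊥ := fun x => by
    rw [eq_bot_iff]
    intro a ha
    have e : ((a : H) : Y) * (x.1 : Y) * ((a : H) : Y)⁻¹ = x.1 := by
      rw [← MulAut.conjNormal_apply]
      exact congrArg (fun z : {x : N // x ∈ K ∧ orderOf x = 2} => (z.1 : Y))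
        (MulAction.mem_stabilizer_iff.1 ha)
    have hao : Odd (orderOf ((a : H) : Y)) := by
      rw [orderOf_coe, orderOf_coe]
      exact ((hr.odd_of_ne_two hr2).pow (n := b + 1)).of_dvd_nat (hR ▸ orderOf_dvd_natCard a)
    have := h.eq_one_of_commute (t := (x.1 : Y)) (by rw [orderOf_coe]; exact x.2.2)
      (mul_inv_eq_iff_eq_mul.1 e).symm hao
    exact mem_bot.2 (Subtype.ext (Subtype.ext this))
  have h1 := Nat.card_congr (MulAction.selfEquivOrbitsQuotientProd hfree)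
  rw [zd_card_invol Z, Nat.card_prod, hR] at h1
  exact Nat.pow_succ_factorization_not_dvd Z.D_odd.pos.ne' hr (Dvd.intro_left _ h1.symm)

/-- If `#D ≠ 3` the simple normal subgroup is everything. -/
theorem eq_top_of_zdata (h : IsCIT Y) (Z : ZData K T D v) (hD : Nat.card D ≠ 3) : N = ⊤ := by
  haveI : Fact (Nat.Prime 2) := ⟨Nat.prime_two⟩
  by_contra hN
  obtain ⟨g, -, hg⟩ := SetLike.exists_of_lt (lt_top_iff_ne_top.2 hN)
  obtain ⟨a, ha, n, hn, rfl⟩ := exists_normalizer_mul Z g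
  have haN : a ∉ N := fun e => hg (N.mul_mem e hn)
  haveI := Z.D_cyclic
  obtain ⟨d₀, hd₀⟩ := IsCyclic.exists_generator (α := D)
  have hd01 : (d₀ : N) ≠ 1 := fun e => by
    have h1 : Nat.card D = orderOf d₀ := (orderOf_eq_card_of_forall_mem_zpowers hd₀).symm
    rw [← orderOf_coe d₀, e, orderOf_one] at h1
    have := Z.three_le
    omega
  set x : N := (MulAut.conjNormal a : MulAut N) d₀ with hx
  have hxT : x ∉ T := fun hxT => hd01 (by
    have := eq_one_of_odd_of_mem Z.two (x := x) (by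
      rw [hx, MulEquiv.orderOf_eq, orderOf_coe]; exact Z.D_odd.of_dvd_nat (orderOf_dvd_natCard _)) hxT
    rw [hx] at this
    exact (MulEquiv.map_eq_one_iff _).1 this)
  obtain ⟨t, ht, d, hd, hxd⟩ := zd_cover Z (conjNormal_mem_K Z ha (zd_D_le Z d₀.2)) hxT
  set a' := (t : Y)⁻¹ * a with ha'
  have ha'H : a' ∈ normalizer ((T.map N.subtype : Subgroup Y) : Set Y) :=
    mul_mem (inv_mem ((mem_normalizer_map_iff Z t).2 (zd_T_le Z ht))) ha
  -- the subgroup of elements mapping `D` into itself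
  let M : Subgroup Y :=
    { carrier := {y | y ∈ normalizer ((T.map N.subtype : Subgroup Y) : Set Y) ∧
        ∀ d : N, d ∈ D ↔ (MulAut.conjNormal y : MulAut N) d ∈ D}
      one_mem' := ⟨one_mem _, fun d => by simp⟩
      mul_mem' := fun {p q} hp hq => ⟨mul_mem hp.1 hq.1, fun d => by
        rw [map_mul, MulAut.mul_apply]; exact (hq.2 d).trans (hp.2 _)⟩
      inv_mem' := fun {p} hp => ⟨inv_mem hp.1, fun d => by
        rw [hp.2 ((MulAut.conjNormal p⁻¹ : MulAut N) d), ← MulAut.mul_apply, ← map_mul, mul_inv_cancel,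
          map_one, MulAut.one_apply]⟩ }
  have ha'M : a' ∈ M := by
    refine ⟨ha'H, fun e => ?_⟩
    set σ : MulAut N := MulAut.conjNormal a'
    have hσd : σ d₀ = d := by
      show (MulAut.conjNormal ((t : Y)⁻¹ * a) : MulAut N) d₀ = d
      apply Subtype.ext
      rw [MulAut.conjNormal_apply]
      have := (MulAut.conjNormal_apply (H := N) a (d₀ : N)).symm.trans (congrArg Subtype.val hxd)
      push_cast at this
      rw [show (t : Y)⁻¹ * a * ((d₀ : N) : Y) * ((t : Y)⁻¹ * a)⁻¹ =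
        (t : Y)⁻¹ * (a * ((d₀ : N) : Y) * a⁻¹) * t by group, this]
      group
    have hle : D.map σ.toMonoidHom ≤ D := by
      rintro _ ⟨y, hy, rfl⟩
      obtain ⟨k, hk⟩ := hd₀ ⟨y, hy⟩
      have hk' : ((d₀ : N)) ^ k = y := congrArg Subtype.val hk
      show σ y ∈ D
      rw [← hk', map_zpow, hσd]
      exact D.zpow_mem hd k
    have heq : D.map σ.toMonoidHom = D :=
      eq_of_le_of_card_ge hle (card_map_of_injective (f := σ.toMonoidHom) σ.injective).ge
    conv_rhs => rw [← heq]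
    exact (mem_map_iff_mem (f := σ.toMonoidHom) σ.injective).symm
  have ha'N : a' ∉ N := fun e => haN (by
    have := N.mul_mem t.2 e
    rwa [ha', mul_inv_cancel_left] at this)
  -- a 2-element
  obtain ⟨j, o, ho, hord⟩ := Nat.exists_eq_two_pow_mul_odd (orderOf_pos a').ne'
  have hp2 := isPGroup_quotient h Z
  have hgN : a' ^ o ∉ N := fun e => ha'N (by
    obtain ⟨k, hk⟩ := hp2 (a' : Y ⧸ N)
    rw [← QuotientGroup.eq_one_iff, QuotientGroup.mk_pow] at e
    rw [← QuotientGroup.eq_one_iff]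
    exact eq_one_of_odd_of_pow (ho.of_dvd_nat (orderOf_dvd_of_pow_eq_one e)) hk)
  have hlast : ∀ (k : ℕ) (w : Y), w ∈ M → w ∉ N → w ^ 2 ^ k = 1 →
      ∃ w' ∈ M, w' ∉ N ∧ w' ^ 2 ∈ N ∧ ∃ i, w' ^ 2 ^ i = 1 := by
    intro k
    induction k with
    | zero => intro w _ hwN hw; exact absurd (by rw [pow_zero, pow_one] at hw; rw [hw]; exact one_mem N) hwN
    | succ k ih =>
      intro w hwM hwN hw
      by_cases h2 : w ^ 2 ∈ N
      · exact ⟨w, hwM, hwN, h2, k + 1, hw⟩
      · exact ih _ (pow_mem hwM 2) h2 (by rw [← pow_mul, ← pow_succ']; exact hw)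
  obtain ⟨w, hwM, hwN, hw2, i, hwi⟩ := hlast j (a' ^ o) (pow_mem ha'M o) hgN
    (by rw [← pow_mul, mul_comm, ← hord, pow_orderOf_eq_one])
  have hwo : orderOf w = 2 := by
    refine orderOf_eq_prime ?_ fun e => hwN (e ▸ one_mem N)
    set y : N := ⟨w ^ 2, hw2⟩ with hy
    have hyM : (y : Y) ∈ M := pow_mem hwM 2
    have hyK : y ∈ K := (mem_normalizer_map_iff Z y).1 hyM.1
    obtain ⟨s, hs, e, he, hye⟩ := Z.decomp y hyK
    have hs1 : s = 1 := by
      refine zd_eq_one_of_norm Z hs d₀.2 hd01 ?_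
      have h1 : (MulAut.conjNormal (y : Y) : MulAut N) (e⁻¹ * d₀ * e) ∈ D :=
        (hyM.2 _).1 (D.mul_mem (D.mul_mem (D.inv_mem he) d₀.2) he)
      have h2 : (MulAut.conjNormal (y : Y) : MulAut N) (e⁻¹ * d₀ * e) = s * d₀ * s⁻¹ := by
        apply Subtype.ext
        rw [MulAut.conjNormal_apply, hye]
        push_cast
        group
      rwa [h2] at h1
    rw [hs1, one_mul] at hye
    have : y = 1 := eq_one_of_odd_of_pow (k := i)
      (hye ▸ Z.D_odd.of_dvd_nat (orderOf_dvd_natCard D he)) (Subtype.ext (by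
        show (w ^ 2) ^ 2 ^ i = 1
        rw [← pow_mul, mul_comm, pow_mul, hwi, one_pow]))
    exact congrArg Subtype.val this
  -- it inverts `D` and fixes an involution of `K`
  set σ : MulAut N := MulAut.conjNormal w
  have hinv : ∀ d ∈ D, σ d = d⁻¹ := by
    intro d hd
    apply Subtype.ext
    rw [MulAut.conjNormal_apply]
    refine h.inverts (A := D.map N.subtype) (by
      rw [card_map_of_injective N.subtype_injective]; exact Z.D_odd) hwo ?_ ⟨d, hd, rfl⟩
    rw [mem_normalizer_iff]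
    intro y
    constructor
    · rintro ⟨y', hy', rfl⟩
      exact ⟨σ y', (hwM.2 y').1 hy', MulAut.conjNormal_apply w y'⟩
    · rintro ⟨y', hy', e⟩
      refine ⟨(MulAut.conjNormal w⁻¹ : MulAut N) y', ((M.inv_mem hwM).2 y').1 hy', ?_⟩
      show ((MulAut.conjNormal w⁻¹ : MulAut N) y' : Y) = y
      rw [MulAut.conjNormal_apply, show (y' : Y) = w * y * w⁻¹ from e]
      group
  let π : Equiv.Perm {x : N // x ∈ K ∧ orderOf x = 2} :=
    (σ.toEquiv).subtypeEquiv fun x => ⟨fun hx => ⟨conjNormal_mem_K Z hwM.1 hx.1,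
      (MulEquiv.orderOf_eq _ _).trans hx.2⟩, fun hx => ⟨by
        have := conjNormal_mem_K Z (inv_mem hwM.1) hx.1
        have e : (MulAut.conjNormal w⁻¹ : MulAut N) (σ.toEquiv x) = x := by
          show (MulAut.conjNormal w⁻¹ : MulAut N) (σ x) = x
          rw [← MulAut.mul_apply, ← map_mul, inv_mul_cancel, map_one, MulAut.one_apply]
        exact e ▸ this,
      (MulEquiv.orderOf_eq _ _).symm.trans hx.2⟩⟩
  haveI : Fintype {x : N // x ∈ K ∧ orderOf x = 2} := Fintype.ofFinite _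
  have hπ : π ^ 2 ^ 1 = 1 := Equiv.ext fun x => Subtype.ext (by
    rw [pow_one, pow_two]
    show σ (σ x.1) = x.1
    rw [← MulAut.mul_apply, ← map_mul, CfsgLib.Invol.mul_self_eq_one hwo, map_one, MulAut.one_apply])
  obtain ⟨z, hzf⟩ := Equiv.Perm.exists_fixed_point_of_prime (p := 2) (by
    rw [← Nat.card_eq_fintype_card, zd_card_invol Z]
    exact fun e => Nat.not_even_iff_odd.2 Z.D_odd (even_iff_two_dvd.2 e)) hπ
  exact hD (zd_card_D_of_aut Z σ hinv z.2.1 z.2.2 (congrArg Subtype.val hzf))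

end CfsgLib.CITGraph
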